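import Groth.Agent.H61.LS.SmoothField
import Groth.Agent.H23.RegSmooth

set_option linter.style.haveILetI false
set_option linter.unusedSectionVars false

/-! Over an algebraically closed field: regular at all maximal ideals implies formally smooth. -/

namespace Groth.Agent.H61.LS

universe u

variable (k B : Type u) [Field k] [IsAlgClosed k] [CommRing B] [Algebra k B] [Algebra.FiniteType k B]

theorem formallySmooth_of_regular_maximal
    (hreg : ∀ (m : Ideal B) [m.IsMaximal], IsRegularLocalRing (Localization.AtPrime m)) :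
    Algebra.FormallySmooth k B := by
  haveI : Algebra.FinitePresentation k B := Algebra.FinitePresentation.of_finiteType.1 inferInstance
  rw [← Algebra.smoothLocus_eq_univ_iff]
  have hopen : IsOpen (Algebra.smoothLocus k B) := Algebra.isOpen_smoothLocus
  by_contra hne
  obtain ⟨p, hp⟩ := (Set.ne_univ_iff_exists_notMem _).1 hne
  obtain ⟨I, hI⟩ := (PrimeSpectrum.isClosed_iff_zeroLocus_ideal _).1 hopen.isClosed_compl
  have hpI : p ∈ PrimeSpectrum.zeroLocus (I : Set B) := by rw [← hI]; exact hp
  have hIne : I ≠ ⊤ := by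
    intro htop
    rw [htop] at hpI
    have : (⊤ : Ideal B) ≤ p.asIdeal := hpI
    exact p.2.ne_top (top_le_iff.1 this)
  obtain ⟨m, hm, hIm⟩ := Ideal.exists_le_maximal I hIne
  have hmem : (⟨m, hm.isPrime⟩ : PrimeSpectrum B) ∈ (Algebra.smoothLocus k B)ᶜ := by
    rw [hI]
    exact hIm
  apply hmem
  exact (Groth.Agent.H23.RegSmooth.isRegularLocalRing_iff_formallySmooth k B m).1 (hreg m)

end Groth.Agent.H61.LS
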