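import Mathlib

set_option linter.style.haveILetI false
set_option linter.unusedSectionVars false

/-! A "biderivation" lifting the difference of two ring homomorphisms out of a polynomial ring
into a module `N` with a linear map `j : N → R'` satisfying `j a • b = j b • a`. -/

universe u v w

namespace Groth.Agent.H61.LS

/-- type synonym of `N` carrying the multiplication `a * b = j a • b`. -/
@[nolint unusedArguments]
def Cr {R' : Type u} [CommRing R'] {N : Type v} [AddCommGroup N] [Module R' N]
    (j : N →ₗ[R'] R') (_hj : ∀ a b : N, j a • b = j b • a) : Type v := N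

namespace Cr

variable {R' : Type u} [CommRing R'] {N : Type v} [AddCommGroup N] [Module R' N]
  (j : N →ₗ[R'] R') (hj : ∀ a b : N, j a • b = j b • a)

instance : AddCommGroup (Cr j hj) := inferInstanceAs (AddCommGroup N)
instance : Module R' (Cr j hj) := inferInstanceAs (Module R' N)

/-- to the synonym -/
def of : N →ₗ[R'] Cr j hj := LinearMap.id
/-- from the synonym -/
def un : Cr j hj →ₗ[R'] N := LinearMap.id

@[simp] lemma un_of (a : N) : un j hj (of j hj a) = a := rfl
@[simp] lemma of_un (a : Cr j hj) : of j hj (un j hj a) = a := rfl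

instance : Mul (Cr j hj) := ⟨fun a b => of j hj (j (un j hj a) • un j hj b)⟩

lemma mul_def (a b : Cr j hj) : a * b = of j hj (j (un j hj a) • un j hj b) := rfl

instance : NonUnitalCommRing (Cr j hj) :=
  { (inferInstance : AddCommGroup (Cr j hj)) with
    mul := (· * ·)
    left_distrib := fun a b c => by
      simp only [mul_def, map_add, smul_add]
    right_distrib := fun a b c => by
      simp only [mul_def, map_add, add_smul]
    zero_mul := fun a => by
      simp only [mul_def, map_zero, zero_smul]
    mul_zero := fun a => by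
      simp only [mul_def, map_zero, smul_zero]
    mul_assoc := fun a b c => by
      simp only [mul_def, un_of, map_smul, smul_eq_mul, mul_smul]
    mul_comm := fun a b => by
      simp only [mul_def]
      rw [hj] }

instance : IsScalarTower R' (Cr j hj) (Cr j hj) :=
  ⟨fun r a b => by
    change of j hj (j (un j hj (r • a)) • un j hj b) = r • of j hj (j (un j hj a) • un j hj b)
    simp only [map_smul, smul_eq_mul, mul_smul]⟩

instance : SMulCommClass R' (Cr j hj) (Cr j hj) :=
  ⟨fun r a b => by
    change r • of j hj (j (un j hj a) • un j hj b) = of j hj (j (un j hj a) • un j hj (r • b))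
    simp only [map_smul]
    rw [smul_comm]⟩

/-- the second projection `(r, a) ↦ r + j a` as a ring hom. -/
def pi2 : Unitization R' (Cr j hj) →+* R' where
  toFun x := x.fst + j (un j hj x.snd)
  map_one' := by simp
  map_zero' := by simp
  map_add' x y := by
    simp only [Unitization.fst_add, Unitization.snd_add, map_add]
    ring
  map_mul' x y := by
    simp only [Unitization.fst_mul, Unitization.snd_mul, map_add, map_smul, smul_eq_mul, mul_def,
      un_of]
    ring

/-- the first projection as a ring hom. -/
def pi1 : Unitization R' (Cr j hj) →+* R' where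
  toFun x := x.fst
  map_one' := rfl
  map_zero' := rfl
  map_add' _ _ := rfl
  map_mul' _ _ := rfl

end Cr

open MvPolynomial in
/-- The biderivation measuring the difference of two ring homs out of a polynomial ring. -/
theorem exists_biDer {A : Type w} [CommRing A] {ι : Type*} {R' : Type u} [CommRing R']
    {N : Type v} [AddCommGroup N] [Module R' N]
    (j : N →ₗ[R'] R') (hj : ∀ a b : N, j a • b = j b • a)
    (φ φ' : MvPolynomial ι A →+* R') (hC : ∀ a, φ (C a) = φ' (C a))
    (w : ι → N) (hw : ∀ i, j (w i) = φ (X i) - φ' (X i)) :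
    ∃ Δ : MvPolynomial ι A →+ N, (∀ r, j (Δ r) = φ r - φ' r) ∧
      (∀ a b, Δ (a * b) = φ' a • Δ b + φ b • Δ a) ∧ (∀ i, Δ (X i) = w i) ∧ ∀ a, Δ (C a) = 0 := by
  classical
  let Φ : MvPolynomial ι A →+* Unitization R' (Cr j hj) :=
    eval₂Hom ((Unitization.inlRingHom R' (Cr j hj)).comp (φ'.comp C))
      (fun i => Unitization.inl (φ' (X i)) + Unitization.inr (Cr.of j hj (w i)))
  have hΦC : ∀ a, Φ (C a) = Unitization.inl (φ' (C a)) := by
    intro a
    simp only [Φ, coe_eval₂Hom, eval₂_C]
    rfl
  have hΦX : ∀ i, Φ (X i) = Unitization.inl (φ' (X i)) + Unitization.inr (Cr.of j hj (w i)) := by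
    intro i
    simp only [Φ, coe_eval₂Hom, eval₂_X]
  have h1 : (Cr.pi1 j hj).comp Φ = φ' := by
    apply MvPolynomial.ringHom_ext
    · intro a
      change (Φ (C a)).fst = _
      rw [hΦC, Unitization.fst_inl]
    · intro i
      change (Φ (X i)).fst = _
      rw [hΦX, Unitization.fst_add, Unitization.fst_inl, Unitization.fst_inr, add_zero]
  have h2 : (Cr.pi2 j hj).comp Φ = φ := by
    apply MvPolynomial.ringHom_ext
    · intro a
      change (Φ (C a)).fst + j (Cr.un j hj (Φ (C a)).snd) = _
      rw [hΦC, Unitization.fst_inl, Unitization.snd_inl, map_zero, map_zero, add_zero, hC]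
    · intro i
      change (Φ (X i)).fst + j (Cr.un j hj (Φ (X i)).snd) = _
      rw [hΦX, Unitization.fst_add, Unitization.fst_inl, Unitization.fst_inr, add_zero,
        Unitization.snd_add, Unitization.snd_inl, Unitization.snd_inr, zero_add, Cr.un_of, hw]
      ring
  have h1' : ∀ r, (Φ r).fst = φ' r := fun r => RingHom.congr_fun h1 r
  have h2' : ∀ r, (Φ r).fst + j (Cr.un j hj (Φ r).snd) = φ r := fun r => RingHom.congr_fun h2 r
  refine ⟨{ toFun := fun r => Cr.un j hj (Φ r).snd
            map_zero' := by rw [map_zero, Unitization.snd_zero, map_zero]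
            map_add' := fun a b => by rw [map_add, Unitization.snd_add, map_add] }, ?_, ?_, ?_, ?_⟩
  · intro r
    change j (Cr.un j hj (Φ r).snd) = _
    rw [← h2' r, h1' r]
    ring
  · intro a b
    change Cr.un j hj (Φ (a * b)).snd = φ' a • Cr.un j hj (Φ b).snd + φ b • Cr.un j hj (Φ a).snd
    rw [map_mul, Unitization.snd_mul, map_add, map_add, map_smul, map_smul, Cr.mul_def, Cr.un_of,
      h1' a, h1' b, ← h2' b, h1' b, add_smul, hj]
    abel
  · intro i
    change Cr.un j hj (Φ (X i)).snd = w i
    rw [hΦX, Unitization.snd_add, Unitization.snd_inl, Unitization.snd_inr, zero_add, Cr.un_of]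
  · intro a
    change Cr.un j hj (Φ (C a)).snd = 0
    rw [hΦC, Unitization.snd_inl, map_zero]

end Groth.Agent.H61.LS
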