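import Mathlib
import Groth.Agent.H26.CMFlat
import Groth.Agent.H72.CMLocal
import Groth.Agent.H72.DepthGen

set_option linter.style.haveILetI false
set_option linter.unusedSectionVars false

/-! In a regular local ring, `r` elements cutting the dimension down by `r` form a regular sequence. -/

namespace Groth.Agent.H61.LS

open RingTheory.Sequence IsLocalRing

universe u

variable (A : Type u) [CommRing A]

lemma height_ofList_le [IsNoetherianRing A] (ys : List A) (hne : Ideal.ofList ys ≠ ⊤) :
    (Ideal.ofList ys).height ≤ ys.length := by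
  classical
  refine (Ideal.height_le_spanFinrank _ hne).trans ?_
  have h1 : Ideal.ofList ys = Ideal.span (ys.toFinset : Set A) := by
    unfold Ideal.ofList
    congr 1
    ext x
    simp
  have h2 : ((Ideal.ofList ys).spanFinrank : ℕ∞) ≤ (ys.toFinset : Set A).encard := by
    rw [h1]
    exact Submodule.spanFinrank_span_le_encard _
  refine h2.trans ?_
  rw [Set.encard_coe_eq_coe_finsetCard]
  exact_mod_cast List.toFinset_card_le ys

theorem isWeaklyRegular_of_dim [IsRegularLocalRing A] (rs : List A)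
    (hne : Ideal.ofList rs ≠ ⊤)
    (hdim : (rs.length : WithBot ℕ∞) + ringKrullDim (A ⧸ Ideal.ofList rs) = ringKrullDim A) :
    IsWeaklyRegular A rs := by
  have hCM := Groth.Agent.H26.CMFlat.isCohenMacaulayLocalRing_of_isRegularLocalRing A
  have hmem : ∀ x ∈ rs, x ∈ maximalIdeal A := fun x hx =>
    IsLocalRing.le_maximalIdeal hne (Ideal.subset_span hx)
  have hle : ∀ ys : List A, (∀ y ∈ ys, y ∈ maximalIdeal A) →
      LocCoh.idealDepth (Ideal.ofList ys) A ≤ ys.length := by
    intro ys hys
    have hne' : Ideal.ofList ys ≠ ⊤ := by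
      intro h
      have h1 : Ideal.ofList ys ≤ maximalIdeal A := Groth.Agent.H72.DepthGen.ofList_le_maximalIdeal ys hys
      rw [h] at h1
      exact (IsLocalRing.maximalIdeal.isMaximal A).ne_top (top_le_iff.1 h1)
    rw [Groth.Agent.H72.CMLocal.idealDepth_eq_height A hCM _ hne']
    exact height_ofList_le A ys hne'
  refine Groth.Agent.H72.DepthGen.isWeaklyRegular_of_idealDepth_eq A hle rs hmem ?_
  rw [Groth.Agent.H72.CMLocal.idealDepth_eq_height A hCM _ hne]
  apply le_antisymm (height_ofList_le A rs hne)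
  have h1 := Groth.Agent.H72.CMLocal.ringKrullDim_le_quotient_add_height A hCM _ hne
  rw [← hdim] at h1
  -- `len + d ≤ d + ht`
  haveI : Nontrivial (A ⧸ Ideal.ofList rs) := Ideal.Quotient.nontrivial_iff.2 hne
  haveI : IsNoetherianRing (A ⧸ Ideal.ofList rs) := inferInstance
  haveI : IsLocalRing (A ⧸ Ideal.ofList rs) :=
    IsLocalRing.of_surjective' (Ideal.Quotient.mk _) Ideal.Quotient.mk_surjective
  have hfin : ringKrullDim (A ⧸ Ideal.ofList rs) ≠ ⊤ := ringKrullDim_lt_top.ne
  have hbot : ringKrullDim (A ⧸ Ideal.ofList rs) ≠ ⊥ := ringKrullDim_ne_bot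
  obtain ⟨d, hd⟩ := WithBot.ne_bot_iff_exists.1 hbot
  rw [← hd] at h1 hfin
  have hd' : d ≠ ⊤ := fun h => hfin (by rw [h]; rfl)
  obtain ⟨n, rfl⟩ := ENat.ne_top_iff_exists.1 hd'
  have h2 : ((rs.length : ℕ∞) + (n : ℕ∞) : ℕ∞) ≤ (n : ℕ∞) + (Ideal.ofList rs).height := by
    exact_mod_cast h1
  rw [add_comm] at h2
  exact (ENat.add_le_add_iff_left (ENat.natCast_ne_top n)).1 h2

end Groth.Agent.H61.LS
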