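import Mathlib

/-! Minimal generators of a finitely generated ideal of a local ring: all relations have
coefficients in the maximal ideal. -/

namespace Groth.Agent.H61.LS

universe u

variable {A : Type u} [CommRing A] [IsLocalRing A]

theorem exists_minimal_generators (I : Ideal A) (hfg : I.FG) :
    ∃ (n : ℕ) (f : Fin n → A), Ideal.span (Set.range f) = I ∧
      ∀ q : Fin n → A, ∑ i, q i * f i = 0 → ∀ i, q i ∈ IsLocalRing.maximalIdeal A := by
  classical
  have hex : ∃ n : ℕ, ∃ f : Fin n → A, Ideal.span (Set.range f) = I :=
    (Submodule.fg_iff_exists_fin_generating_family).1 hfg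
  obtain ⟨f, hf⟩ := Nat.find_spec hex
  have hmin := fun m (hm : m < Nat.find hex) => Nat.find_min hex hm
  refine ⟨Nat.find hex, f, hf, ?_⟩
  generalize Nat.find hex = n at f hf hmin
  intro q hq j
  by_contra hj
  have hu : IsUnit (q j) := by
    by_contra h
    exact hj ((IsLocalRing.mem_maximalIdeal _).2 h)
  cases n with
  | zero => exact j.elim0
  | succ n' =>
    apply hmin n' (Nat.lt_succ_self _)
    refine ⟨f ∘ j.succAbove, ?_⟩
    apply le_antisymm
    · rw [← hf]
      apply Ideal.span_mono
      rintro _ ⟨i, rfl⟩
      exact ⟨_, rfl⟩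
    · rw [← hf, Ideal.span_le]
      rintro _ ⟨i, rfl⟩
      by_cases hij : i = j
      · subst hij
        rw [Fin.sum_univ_succAbove _ i] at hq
        obtain ⟨u, hu'⟩ := hu
        have : f i = -(↑u⁻¹ * ∑ i' : Fin n', q (i.succAbove i') * f (i.succAbove i')) := by
          have h1 : q i * f i = -∑ i' : Fin n', q (i.succAbove i') * f (i.succAbove i') :=
            eq_neg_of_add_eq_zero_left hq
          rw [← hu'] at h1
          calc f i = ↑u⁻¹ * (↑u * f i) := by rw [← mul_assoc, Units.inv_mul, one_mul]
            _ = _ := by rw [h1, mul_neg]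
        rw [this]
        apply neg_mem
        apply Ideal.mul_mem_left
        apply Ideal.sum_mem
        intro i' _
        apply Ideal.mul_mem_left
        exact Ideal.subset_span ⟨i', rfl⟩
      · obtain ⟨i', rfl⟩ := Fin.exists_succAbove_eq hij
        exact Ideal.subset_span ⟨i', rfl⟩

end Groth.Agent.H61.LS
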