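import Groth.Agent.H61.LS.PresHomBasic

set_option linter.style.haveILetI false
set_option linter.unusedSectionVars false

/-! Independence of `Tⁱ` from the presentation. -/

open TensorProduct

namespace Groth.Agent.H61.LS

open CotT

universe u v w t w' t' m

variable {A : Type u} {B : Type v} {ι : Type w} {σ : Type t} {ι' : Type w'} {σ' : Type t'}
variable [CommRing A] [CommRing B] [Algebra A B]
variable {P : Algebra.Presentation A B ι σ} {P' : Algebra.Presentation A B ι' σ'}
variable (M : Type m) [AddCommGroup M] [Module B M]

theorem T0pull_bijective (h : PresHom P P') : Function.Bijective (h.T0pull M) := by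
  let h' : PresHom P' P := defaultPresHom P' P
  have e1 : ∀ x, h.T0pull M (h'.T0pull M x) = x := by
    intro x
    rw [← T0pull_comp h h' M (PresHom.id P) x, id_T0pull]
  have e2 : ∀ x, h'.T0pull M (h.T0pull M x) = x := by
    intro x
    rw [← T0pull_comp h' h M (PresHom.id P') x, id_T0pull]
  exact ⟨Function.LeftInverse.injective e2, Function.RightInverse.surjective e1⟩

theorem T1pull_bijective (h : PresHom P P') : Function.Bijective (h.T1pull M) := by
  let h' : PresHom P' P := defaultPresHom P' P
  have e1 : ∀ x, h.T1pull M (h'.T1pull M x) = x := by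
    intro x
    rw [← T1pull_comp h h' M (PresHom.id P) x, id_T1pull]
  have e2 : ∀ x, h'.T1pull M (h.T1pull M x) = x := by
    intro x
    rw [← T1pull_comp h' h M (PresHom.id P') x, id_T1pull]
  exact ⟨Function.LeftInverse.injective e2, Function.RightInverse.surjective e1⟩

theorem T2pull_bijective (h : PresHom P P') : Function.Bijective (h.T2pull M) := by
  let h' : PresHom P' P := defaultPresHom P' P
  have e1 : ∀ x, h.T2pull M (h'.T2pull M x) = x := by
    intro x
    rw [← T2pull_comp h h' M (PresHom.id P) x, id_T2pull]
  have e2 : ∀ x, h'.T2pull M (h.T2pull M x) = x := by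
    intro x
    rw [← T2pull_comp h' h M (PresHom.id P') x, id_T2pull]
  exact ⟨Function.LeftInverse.injective e2, Function.RightInverse.surjective e1⟩

end Groth.Agent.H61.LS
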