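import Groth.Agent.H61.LS.NineComp
import Groth.Agent.H61.LS.Invariance

set_option linter.style.haveILetI false
set_option linter.unusedSectionVars false

/-! The nine-term sequence for `A → B → C` for arbitrary presentations and morphisms of presentations. -/

open TensorProduct

namespace Groth.Agent.H61.LS

open CotT

universe u v z w t w' t' w'' t'' m

lemma exact_transport {X Y Y' Z : Type*} [Zero Z] {f : X → Y} {g : Y → Z} (h : Function.Exact f g)
    {E : Y → Y'} {E' : Y' → Y} (h1 : ∀ y, E' (E y) = y) (h2 : ∀ y', E (E' y') = y')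
    {f' : X → Y'} {g' : Y' → Z} (hf : ∀ x, f' x = E (f x)) (hg : ∀ y', g' y' = g (E' y')) :
    Function.Exact f' g' := by
  intro y'
  rw [hg, h (E' y')]
  constructor
  · rintro ⟨x, hx⟩
    exact ⟨x, by rw [hf, hx, h2]⟩
  · rintro ⟨x, rfl⟩
    exact ⟨x, by rw [hf, h1]⟩

lemma exact_transport_left {X X' Y Z : Type*} [Zero Z] {f : X → Y} {g : Y → Z} (h : Function.Exact f g)
    {E' : X' → X} (hE : Function.Surjective E') {f' : X' → Y} (hf : ∀ x, f' x = f (E' x)) :
    Function.Exact f' g := by
  intro y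
  rw [h y]
  constructor
  · rintro ⟨x, rfl⟩
    obtain ⟨x', rfl⟩ := hE x
    exact ⟨x', hf x'⟩
  · rintro ⟨x', rfl⟩
    exact ⟨E' x', (hf x').symm⟩

lemma exact_transport_right {X Y Z Z' : Type*} [Zero Z] [Zero Z'] {f : X → Y} {g : Y → Z}
    (h : Function.Exact f g) {E : Z → Z'} (hE0 : E 0 = 0) (hE : Function.Injective E)
    {g' : Y → Z'} (hg : ∀ y, g' y = E (g y)) :
    Function.Exact f g' := by
  intro y
  rw [← h y, hg]
  constructor
  · intro h0
    exact hE (by rw [h0, hE0])
  · intro h0
    rw [h0, hE0]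

variable {A : Type u} {B : Type v} {C : Type z} [CommRing A] [CommRing B] [CommRing C]
variable [Algebra A B] [Algebra B C] [Algebra A C] [IsScalarTower A B C]
variable {ι : Type w} {σ : Type t} {ι' : Type w'} {σ' : Type t'} {ι'' : Type w''} {σ'' : Type t''}
variable (PB : Algebra.Presentation A B ι σ) (QC : Algebra.Presentation B C ι' σ')
variable (PC : Algebra.Presentation A C ι'' σ'')
variable (hα : PresHom PB PC) (hβ : PresHom PC QC)
variable (M : Type m) [AddCommGroup M] [Module C M] [Module B M] [IsScalarTower B C M]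

/-- The nine-term sequence for arbitrary presentations and morphisms of presentations. -/
theorem nine_term_general :
    Function.Injective (hβ.T0pull M) ∧
    Function.Exact (hβ.T0pull M) (hα.T0pull M) ∧
    Function.Exact (hβ.T1pull M) (hα.T1pull M) ∧
    Function.Exact (hβ.T2pull M) (hα.T2pull M) ∧
    ∃ (δ₀ : T0 PB M →+ T1 QC M) (δ₁ : T1 PB M →+ T2 QC M),
      Function.Exact (hα.T0pull M) δ₀ ∧ Function.Exact δ₀ (hβ.T1pull M) ∧
      Function.Exact (hα.T1pull M) δ₁ ∧ Function.Exact δ₁ (hβ.T2pull M) := by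
  obtain ⟨i0, x0, x1, x2, δ₀, δ₁, y0, y1, y2, y3⟩ := nine_term_comp PB QC M
  let e : PresHom PC (QC.comp PB) := defaultPresHom PC (QC.comp PB)
  let e' : PresHom (QC.comp PB) PC := defaultPresHom (QC.comp PB) PC
  have hb0 : ∀ x, hβ.T0pull M x = e.T0pull M ((beta PB QC).T0pull M x) :=
    fun x => T0pull_comp e (beta PB QC) M hβ x
  have hb1 : ∀ x, hβ.T1pull M x = e.T1pull M ((beta PB QC).T1pull M x) :=
    fun x => T1pull_comp e (beta PB QC) M hβ x
  have hb2 : ∀ x, hβ.T2pull M x = e.T2pull M ((beta PB QC).T2pull M x) :=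
    fun x => T2pull_comp e (beta PB QC) M hβ x
  have ha0 : ∀ x, hα.T0pull M x = (alpha PB QC).T0pull M (e'.T0pull M x) :=
    fun x => T0pull_comp (alpha PB QC) e' M hα x
  have ha1 : ∀ x, hα.T1pull M x = (alpha PB QC).T1pull M (e'.T1pull M x) :=
    fun x => T1pull_comp (alpha PB QC) e' M hα x
  have ha2 : ∀ x, hα.T2pull M x = (alpha PB QC).T2pull M (e'.T2pull M x) :=
    fun x => T2pull_comp (alpha PB QC) e' M hα x
  have e0 : ∀ x, e'.T0pull M (e.T0pull M x) = x := fun x => by
    rw [← T0pull_comp e' e M (PresHom.id _) x, id_T0pull]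
  have e1 : ∀ x, e'.T1pull M (e.T1pull M x) = x := fun x => by
    rw [← T1pull_comp e' e M (PresHom.id _) x, id_T1pull]
  have e2 : ∀ x, e'.T2pull M (e.T2pull M x) = x := fun x => by
    rw [← T2pull_comp e' e M (PresHom.id _) x, id_T2pull]
  have e0' : ∀ x, e.T0pull M (e'.T0pull M x) = x := fun x => by
    rw [← T0pull_comp e e' M (PresHom.id _) x, id_T0pull]
  have e1' : ∀ x, e.T1pull M (e'.T1pull M x) = x := fun x => by
    rw [← T1pull_comp e e' M (PresHom.id _) x, id_T1pull]
  have e2' : ∀ x, e.T2pull M (e'.T2pull M x) = x := fun x => by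
    rw [← T2pull_comp e e' M (PresHom.id _) x, id_T2pull]
  refine ⟨?_, exact_transport x0 e0 e0' hb0 ha0, exact_transport x1 e1 e1' hb1 ha1,
    exact_transport x2 e2 e2' hb2 ha2, δ₀, δ₁, ?_, ?_, ?_, ?_⟩
  · intro x y hxy
    rw [hb0, hb0] at hxy
    exact i0 (Function.LeftInverse.injective e0 hxy)
  · exact exact_transport_left y0 (Function.RightInverse.surjective e0) ha0
  · exact exact_transport_right y1 (map_zero _) (Function.LeftInverse.injective e1) hb1
  · exact exact_transport_left y2 (Function.RightInverse.surjective e1) ha1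
  · exact exact_transport_right y3 (map_zero _) (Function.LeftInverse.injective e2) hb2

end Groth.Agent.H61.LS
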