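import Groth.Agent.H61.LS.NoRel
import Groth.Agent.H15.Koszul3

set_option linter.style.haveILetI false
set_option linter.unusedSectionVars false

/-! `T²` vanishes when all relations are trivial; quotient by a regular sequence. -/

open TensorProduct

namespace Groth.Agent.H61.LS

open CotT

universe u v w t m

section general

variable {A : Type u} {B : Type v} {ι : Type w} {σ : Type t}
variable [CommRing A] [CommRing B] [Algebra A B]
variable (P : Algebra.Presentation A B ι σ)
variable (M : Type m) [AddCommGroup M] [Module B M]

lemma subsingleton_L2_of_relKer_le (hle : relKer P ≤ trivRel P) : Subsingleton (L2 P) := by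
  have h : ∀ x : L2 P, x = 0 := by
    intro x
    obtain ⟨z, rfl⟩ := Submodule.Quotient.mk_surjective _ x
    induction z using TensorProduct.induction_on with
    | zero => rfl
    | tmul b q =>
      rw [Submodule.Quotient.mk_eq_zero]
      exact ⟨b ⊗ₜ ⟨q, hle q.2⟩, rfl⟩
    | add x y hx hy => rw [Submodule.Quotient.mk_add, hx, hy, add_zero]
  exact ⟨fun a b => by rw [h a, h b]⟩

theorem subsingleton_T2_of_relKer_le (hle : relKer P ≤ trivRel P) : Subsingleton (T2 P M) := by
  haveI := subsingleton_L2_of_relKer_le P hle
  have h : ∀ x : T2 P M, x = 0 := by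
    intro x
    obtain ⟨ψ, rfl⟩ := Submodule.Quotient.mk_surjective _ x
    have : ψ = 0 := by
      apply LinearMap.ext
      intro y
      rw [Subsingleton.elim y 0, map_zero, map_zero]
    rw [this, Submodule.Quotient.mk_zero]
  exact ⟨fun a b => by rw [h a, h b]⟩

end general

section koszul

variable {A : Type u} {B : Type v} [CommRing A] [CommRing B] [Algebra A B]
variable {ι : Type w} {n : ℕ} (P : Algebra.Presentation A B ι (Fin n))

/-- If the relations of `P` have vanishing first Koszul homology, all relations are trivial. -/
theorem relKer_le_trivRel_of_koszul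
    (hK : CInt.KoszulH1Zero (fun i : Fin n => rel P i) P.toExtension.Ring) :
    relKer P ≤ trivRel P := by
  classical
  intro q hq
  have hq0 : jmap P q = 0 := hq
  have hsum : ∑ i, rel P i • (q i) = 0 := by
    rw [← hq0, jmap, Finsupp.linearCombination_apply, Finsupp.sum_fintype _ _ (by simp)]
    simp [mul_comm]
  have hmem := hK (fun i => q i) hsum
  -- transport along `Finsupp.linearEquivFunOnFinite`
  let e := Finsupp.linearEquivFunOnFinite P.toExtension.Ring P.toExtension.Ring (Fin n)
  have hmap : Submodule.span P.toExtension.Ring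
      {v : Fin n → P.toExtension.Ring | ∃ (i j : Fin n) (x : P.toExtension.Ring),
        v = rel P j • (Pi.single i x : Fin n → P.toExtension.Ring) -
          rel P i • (Pi.single j x : Fin n → P.toExtension.Ring)} ≤
      Submodule.map e.toLinearMap (trivRel P) := by
    rw [Submodule.span_le]
    rintro _ ⟨i, j, x, rfl⟩
    refine ⟨rel P j • Finsupp.single i x - rel P i • Finsupp.single j x, ?_, ?_⟩
    · apply Submodule.subset_span
      refine ⟨Finsupp.single j 1, Finsupp.single i x, ?_⟩
      simp only [jmap_single, one_mul, Finsupp.smul_single, smul_eq_mul, mul_one, mul_comm x]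
    · rw [map_sub, map_smul, map_smul]
      simp [e]
  obtain ⟨q', hq', hqq'⟩ := hmap hmem
  have : q' = q := by
    apply e.injective
    rw [LinearEquiv.coe_coe] at hqq'
    rw [hqq']
    rfl
  rwa [this] at hq'

end koszul

section quotient

open MvPolynomial RingTheory.Sequence

variable {A : Type u} {B : Type v} [CommRing A] [CommRing B] [Algebra A B]

/-- the presentation of a quotient `B = A / (f₁, …, fₙ)` with no variables. -/
noncomputable def quotPres (hs : Function.Surjective (algebraMap A B)) {n : ℕ} (f : Fin n → A)
    (hI : RingHom.ker (algebraMap A B) = Ideal.span (Set.range f)) :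
    Algebra.Presentation A B PEmpty.{w + 1} (Fin n) where
  toGenerators := Algebra.Generators.ofSurjectiveAlgebraMap hs
  relation i := C (f i)
  span_range_relation_eq_ker := by
    rw [Algebra.Generators.ker_eq_ker_aeval_val]
    apply le_antisymm
    · rw [Ideal.span_le]
      rintro _ ⟨i, rfl⟩
      rw [SetLike.mem_coe, RingHom.mem_ker, aeval_C]
      have : f i ∈ RingHom.ker (algebraMap A B) := by
        rw [hI]; exact Ideal.subset_span ⟨i, rfl⟩
      exact this
    · intro p hp
      rw [RingHom.mem_ker, p.eq_C_of_isEmpty, aeval_C] at hp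
      have h1 : p.coeff 0 ∈ Ideal.span (Set.range f) := by rw [← hI]; exact hp
      rw [p.eq_C_of_isEmpty]
      have h2 : Ideal.map (C : A →+* MvPolynomial PEmpty.{w + 1} A) (Ideal.span (Set.range f)) ≤
          Ideal.span (Set.range fun i => (C (f i) : MvPolynomial PEmpty.{w + 1} A)) := by
        rw [Ideal.map_span, Ideal.span_le]
        rintro _ ⟨_, ⟨i, rfl⟩, rfl⟩
        exact Ideal.subset_span ⟨i, rfl⟩
      exact h2 (Ideal.mem_map_of_mem _ h1)

theorem subsingleton_T2_quotPres (hs : Function.Surjective (algebraMap A B)) (rs : List A)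
    (hreg : IsWeaklyRegular A rs)
    (hI : RingHom.ker (algebraMap A B) = Ideal.span (Set.range fun i : Fin rs.length => rs.get i))
    (M : Type m) [AddCommGroup M] [Module B M] :
    Subsingleton (T2 (quotPres.{u, v, w} hs (fun i : Fin rs.length => rs.get i) hI) M) := by
  apply subsingleton_T2_of_relKer_le
  apply relKer_le_trivRel_of_koszul
  apply Groth.Agent.H15.koszulH1Zero_of_isWeaklyRegular
  have h1 : IsWeaklyRegular (MvPolynomial PEmpty.{w + 1} A)
      (rs.map (C : A →+* MvPolynomial PEmpty.{w + 1} A)) := by
    refine (AddEquiv.isWeaklyRegular_congr (e := (isEmptyRingEquiv A PEmpty.{w + 1}).symm.toAddEquiv)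
      (as := rs) ?_).1 hreg
    rw [List.forall₂_map_right_iff, List.forall₂_same]
    intro r _ x
    change (isEmptyRingEquiv A PEmpty.{w + 1}).symm (r • x) =
      C r • (isEmptyRingEquiv A PEmpty.{w + 1}).symm x
    rw [isEmptyRingEquiv_symm_apply, isEmptyRingEquiv_symm_apply, smul_eq_mul, smul_eq_mul, map_mul]
  have h2 : rs.map (C : A →+* MvPolynomial PEmpty.{w + 1} A) =
      List.ofFn (fun i : Fin rs.length => (C (rs.get i) : MvPolynomial PEmpty.{w + 1} A)) := by
    conv_lhs => rw [← List.ofFn_get rs, List.map_ofFn]
    rfl
  rw [h2] at h1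
  exact h1

end quotient

end Groth.Agent.H61.LS
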