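import Groth.Agent.H61.LS.LocalRel
import Groth.Agent.H61.LS.RegSeq
import Groth.Agent.H61.LS.Invariance

set_option linter.style.haveILetI false
set_option linter.unusedSectionVars false

/-! `T²` vanishes when the kernel of the presentation is locally generated by regular sequences and `I/I²` is
projective. -/

open TensorProduct

namespace Groth.Agent.H61.LS

open CotT MvPolynomial RingTheory.Sequence

universe u v w t m

section quotGen

variable {A : Type u} {B : Type v} [CommRing A] [CommRing B] [Algebra A B] {σ : Type t}

/-- the presentation of a quotient `B = A / (f_s)` with no variables, arbitrary index type. -/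
noncomputable def quotPresGen (hs : Function.Surjective (algebraMap A B)) (f : σ → A)
    (hI : RingHom.ker (algebraMap A B) = Ideal.span (Set.range f)) :
    Algebra.Presentation A B PEmpty.{w + 1} σ where
  toGenerators := Algebra.Generators.ofSurjectiveAlgebraMap hs
  relation i := C (f i)
  span_range_relation_eq_ker := by
    rw [Algebra.Generators.ker_eq_ker_aeval_val]
    apply le_antisymm
    · rw [Ideal.span_le]
      rintro _ ⟨i, rfl⟩
      rw [SetLike.mem_coe, RingHom.mem_ker, aeval_C]
      have : f i ∈ RingHom.ker (algebraMap A B) := by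
        rw [hI]; exact Ideal.subset_span ⟨i, rfl⟩
      exact this
    · intro p hp
      rw [RingHom.mem_ker, p.eq_C_of_isEmpty, aeval_C] at hp
      have h1 : p.coeff 0 ∈ Ideal.span (Set.range f) := by rw [← hI]; exact hp
      rw [p.eq_C_of_isEmpty]
      have h2 : Ideal.map (C : A →+* MvPolynomial PEmpty.{w + 1} A) (Ideal.span (Set.range f)) ≤
          Ideal.span (Set.range fun i => (C (f i) : MvPolynomial PEmpty.{w + 1} A)) := by
        rw [Ideal.map_span, Ideal.span_le]
        rintro _ ⟨_, ⟨i, rfl⟩, rfl⟩
        exact Ideal.subset_span ⟨i, rfl⟩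
      exact h2 (Ideal.mem_map_of_mem _ h1)

lemma rel_quotPresGen (hs : Function.Surjective (algebraMap A B)) (f : σ → A)
    (hI : RingHom.ker (algebraMap A B) = Ideal.span (Set.range f)) (s : σ) :
    rel (quotPresGen.{u, v, w, t} hs f hI) s = C (f s) := rfl

lemma algebraMap_quotPresGen_C (hs : Function.Surjective (algebraMap A B)) (f : σ → A)
    (hI : RingHom.ker (algebraMap A B) = Ideal.span (Set.range f)) (a : A) :
    algebraMap (quotPresGen.{u, v, w, t} hs f hI).toExtension.Ring B (C a) = algebraMap A B a := by
  rw [algebraMap_toExtension]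
  exact aeval_C _ a

/-- `T²` of any presentation of a quotient by a regular sequence vanishes. -/
theorem subsingleton_T2_of_regular (hs : Function.Surjective (algebraMap A B)) (rs : List A)
    (hreg : IsWeaklyRegular A rs) (hI : RingHom.ker (algebraMap A B) = Ideal.ofList rs)
    {ι' : Type w} {σ' : Type t} (P : Algebra.Presentation A B ι' σ')
    (M : Type m) [AddCommGroup M] [Module B M] : Subsingleton (T2 P M) := by
  classical
  have hI' : RingHom.ker (algebraMap A B) = Ideal.span (Set.range fun i : Fin rs.length => rs.get i) := by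
    rw [hI]
    unfold Ideal.ofList
    congr 1
    ext r
    simp only [Set.mem_ofPred_eq, Set.mem_range]
    constructor
    · intro hr
      obtain ⟨i, hi⟩ := List.mem_iff_get.1 hr
      exact ⟨i, hi⟩
    · rintro ⟨i, rfl⟩
      exact List.get_mem rs i
  let P₀ := quotPres.{u, v, 0} hs (fun i : Fin rs.length => rs.get i) hI'
  let h : PresHom P P₀ := defaultPresHom _ _
  have b2 := T2pull_bijective M h
  have := subsingleton_T2_quotPres.{u, v, 0} hs rs hreg hI' M
  refine ⟨fun a b => ?_⟩
  obtain ⟨a', rfl⟩ := b2.2 a
  obtain ⟨b', rfl⟩ := b2.2 b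
  rw [Subsingleton.elim a' b']

end quotGen


section Local

variable {k : Type u} {B : Type v} [CommRing k] [CommRing B] [Algebra k B] {ι : Type w} {σ : Type t}
variable (P : Algebra.Presentation k B ι σ)

/-- local analysis at a prime `n` of the polynomial ring: if `I R_n` is generated by a regular sequence, then
relations with coefficients in `I` are trivial up to an element outside `n`. -/
theorem exists_smul_mem_trivRel_of_regular (n : Ideal P.toExtension.Ring) [n.IsPrime]
    (rs : List (Localization.AtPrime n)) (hreg : IsWeaklyRegular (Localization.AtPrime n) rs)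
    (hJ : Ideal.ofList rs = P.toExtension.ker.map (algebraMap P.toExtension.Ring (Localization.AtPrime n)))
    (q : relMod P) (hq : q ∈ relKer P) (hI : ∀ s, q s ∈ P.toExtension.ker) :
    ∃ u ∈ n.primeCompl, u • q ∈ trivRel P := by
  set J : Ideal (Localization.AtPrime n) :=
    P.toExtension.ker.map (algebraMap P.toExtension.Ring (Localization.AtPrime n)) with hJdef
  have hs : Function.Surjective (algebraMap (Localization.AtPrime n) (Localization.AtPrime n ⧸ J)) :=
    Ideal.Quotient.mk_surjective
  have hker : RingHom.ker (algebraMap (Localization.AtPrime n) (Localization.AtPrime n ⧸ J)) = J :=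
    Ideal.mk_ker
  have hIf : RingHom.ker (algebraMap (Localization.AtPrime n) (Localization.AtPrime n ⧸ J)) =
      Ideal.span (Set.range fun s : σ =>
        algebraMap P.toExtension.Ring (Localization.AtPrime n) (rel P s)) := by
    rw [hker, hJdef]
    have h0 : P.toExtension.ker = Ideal.span (Set.range (rel P)) := P.span_range_relation_eq_ker.symm
    rw [h0, Ideal.map_span, ← Set.range_comp]
    rfl
  let P' := quotPresGen.{_, _, 0, t} hs
    (fun s : σ => algebraMap P.toExtension.Ring (Localization.AtPrime n) (rel P s)) hIf
  let ψ : P.toExtension.Ring →+* P'.toExtension.Ring :=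
    (C : Localization.AtPrime n →+* MvPolynomial PEmpty.{1} (Localization.AtPrime n)).comp
      (algebraMap P.toExtension.Ring (Localization.AtPrime n))
  have hrel : ∀ s, rel P' s = ψ (rel P s) := fun s => rfl
  have h1 : ∀ r'' : P'.toExtension.Ring, ∃ r : P.toExtension.Ring, ∃ w ∈ n.primeCompl,
      ψ w * r'' = ψ r := by
    intro r''
    obtain ⟨⟨r, w⟩, hrw⟩ := IsLocalization.surj n.primeCompl
      (MvPolynomial.coeff 0 (r'' : MvPolynomial PEmpty.{1} (Localization.AtPrime n)))
    refine ⟨r, w.1, w.2, ?_⟩
    have h0 : (r'' : MvPolynomial PEmpty.{1} (Localization.AtPrime n)) = C (MvPolynomial.coeff 0 r'') :=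
      MvPolynomial.eq_C_of_isEmpty r''
    have h3 : (C (algebraMap _ (Localization.AtPrime n) w.1) * C (MvPolynomial.coeff 0 r'') :
        MvPolynomial PEmpty.{1} (Localization.AtPrime n)) =
        C (algebraMap _ (Localization.AtPrime n) r) := by
      rw [← C_mul, mul_comm]
      exact congrArg C hrw
    rw [h0]
    exact h3
  have h2 : ∀ x : P.toExtension.Ring, ψ x = 0 → ∃ v ∈ n.primeCompl, v * x = 0 := by
    intro x hx
    have hx' : algebraMap P.toExtension.Ring (Localization.AtPrime n) x = 0 := by
      apply MvPolynomial.C_injective PEmpty.{1} (Localization.AtPrime n)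
      rw [map_zero]
      exact hx
    obtain ⟨m, hm⟩ := (IsLocalization.map_eq_zero_iff n.primeCompl (Localization.AtPrime n) x).1 hx'
    exact ⟨m.1, m.2, hm⟩
  have hkerψ : ∀ x ∈ P.toExtension.ker, ψ x ∈ P'.toExtension.ker := by
    intro x hx
    change algebraMap P'.toExtension.Ring (Localization.AtPrime n ⧸ J)
      (C (algebraMap P.toExtension.Ring (Localization.AtPrime n) x)) = 0
    rw [algebraMap_quotPresGen_C]
    change Ideal.Quotient.mk J _ = 0
    rw [Ideal.Quotient.eq_zero_iff_mem]
    exact Ideal.mem_map_of_mem _ hx
  have hinj : Function.Injective (d2 P') := by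
    apply d2_injective_of_subsingleton_T2
    exact subsingleton_T2_of_regular hs rs hreg (by rw [hker, hJ]) P' (L2 P')
  exact exists_smul_mem_trivRel P P' ψ hrel n.primeCompl h1 h2 hinj hkerψ q hq hI

/-- globalization: if `I` is generated by a regular sequence at every maximal ideal containing it, relations
with coefficients in `I` are trivial. -/
theorem mem_trivRel_of_locally_regular
    (H : ∀ (n : Ideal P.toExtension.Ring) [n.IsMaximal], P.toExtension.ker ≤ n →
      ∃ rs : List (Localization.AtPrime n), IsWeaklyRegular (Localization.AtPrime n) rs ∧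
        Ideal.ofList rs = P.toExtension.ker.map (algebraMap P.toExtension.Ring (Localization.AtPrime n)))
    (q : relMod P) (hq : q ∈ relKer P) (hI : ∀ s, q s ∈ P.toExtension.ker) : q ∈ trivRel P := by
  -- the ideal of multipliers
  let 𝔞 : Ideal P.toExtension.Ring := (trivRel P).colon {q}
  have hmem : ∀ r : P.toExtension.Ring, r ∈ 𝔞 ↔ r • q ∈ trivRel P := fun r =>
    Submodule.mem_colon_singleton
  by_contra hcon
  have hne : 𝔞 ≠ ⊤ := by
    intro htop
    apply hcon
    have : (1 : P.toExtension.Ring) ∈ 𝔞 := by rw [htop]; exact Submodule.mem_top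
    rw [hmem, one_smul] at this
    exact this
  obtain ⟨n, hn, hle⟩ := Ideal.exists_le_maximal 𝔞 hne
  have hIle : P.toExtension.ker ≤ n := by
    refine le_trans ?_ hle
    intro r hr
    rw [hmem]
    have h1 : (r • (⟨q, hq⟩ : relKer P)) ∈
        P.toExtension.ker • (⊤ : Submodule P.toExtension.Ring (relKer P)) :=
      Submodule.smul_mem_smul hr Submodule.mem_top
    exact smul_top_relKer_le_trivRel P _ h1
  obtain ⟨rs, hreg, hJ⟩ := H n hIle
  obtain ⟨u, hu, huq⟩ := exists_smul_mem_trivRel_of_regular P n rs hreg hJ q hq hI
  exact hu (hle ((hmem u).2 huq))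

theorem subsingleton_T2_of_locally_regular
    (H : ∀ (n : Ideal P.toExtension.Ring) [n.IsMaximal], P.toExtension.ker ≤ n →
      ∃ rs : List (Localization.AtPrime n), IsWeaklyRegular (Localization.AtPrime n) rs ∧
        Ideal.ofList rs = P.toExtension.ker.map (algebraMap P.toExtension.Ring (Localization.AtPrime n)))
    [Module.Projective B P.toExtension.Cotangent] (M : Type m) [AddCommGroup M] [Module B M] :
    Subsingleton (T2 P M) :=
  subsingleton_T2_of_injective_of_projective P
    (d2_injective_of_forall P (mem_trivRel_of_locally_regular P H)) M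

end Local

end Groth.Agent.H61.LS
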