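import Groth.Agent.H61.LS.D2Inj
import Groth.Agent.H61.LS.SmoothT2
import Groth.Agent.H61.LS.NineGeneral
import Groth.Agent.H61.LS.MinGen
import Groth.Agent.H15.Koszul3

set_option linter.style.haveILetI false
set_option linter.unusedSectionVars false

/-! `T²` of a quotient of a Noetherian local ring vanishes iff the ideal is generated by a regular sequence. -/

open TensorProduct

namespace Groth.Agent.H61.LS

open CotT MvPolynomial RingTheory.Sequence

universe u v w t m z

section retraction

variable {A : Type u} {B : Type v} {ι : Type w} {σ : Type t}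
variable [CommRing A] [CommRing B] [Algebra A B]
variable (P : Algebra.Presentation A B ι σ)

lemma exists_retraction_of_subsingleton_T2 (h : Subsingleton (T2 P (L2 P))) :
    ∃ ρ : L1 P →ₗ[B] L2 P, ρ ∘ₗ d2 P = LinearMap.id := by
  have h0 : (Submodule.Quotient.mk (LinearMap.id : L2 P →ₗ[B] L2 P) : T2 P (L2 P)) = 0 :=
    Subsingleton.elim _ _
  rw [Submodule.Quotient.mk_eq_zero] at h0
  obtain ⟨ρ, hρ⟩ := h0
  rw [d2Star_apply] at hρ
  exact ⟨ρ, hρ⟩

lemma one_tmul_mem_smul_top (𝔫 : Ideal B) (q : relMod P)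
    (hq : ∀ s, algebraMap P.toExtension.Ring B (q s) ∈ 𝔫) :
    ((1 : B) ⊗ₜ[P.toExtension.Ring] q : L1 P) ∈ 𝔫 • (⊤ : Submodule B (L1 P)) := by
  classical
  rw [← Finsupp.sum_single q, Finsupp.sum, TensorProduct.tmul_sum]
  refine Submodule.sum_mem _ fun s _ => ?_
  have : ((1 : B) ⊗ₜ[P.toExtension.Ring] (Finsupp.single s (q s) : relMod P) : L1 P) =
      algebraMap P.toExtension.Ring B (q s) • ((1 : B) ⊗ₜ[P.toExtension.Ring] (Finsupp.single s 1 : relMod P)) := by
    have h1 : (Finsupp.single s (q s) : relMod P) = q s • (Finsupp.single s 1 : relMod P) := by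
      rw [Finsupp.smul_single, smul_eq_mul, mul_one]
    rw [h1, TensorProduct.tmul_smul, TensorProduct.smul_tmul', TensorProduct.smul_tmul',
      Algebra.smul_def, mul_one, smul_eq_mul, mul_one]
  rw [this]
  exact Submodule.smul_mem_smul (hq s) Submodule.mem_top

/-- Nakayama: if `d₂` has a retraction, `L₂` is finite, and all relations have coefficients mapping into an ideal
contained in the Jacobson radical, all relations are trivial. -/
theorem relKer_le_trivRel_of_retraction (ρ : L1 P →ₗ[B] L2 P) (hρ : ρ ∘ₗ d2 P = LinearMap.id)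
    (𝔫 : Ideal B) (h𝔫 : 𝔫 ≤ Ideal.jacobson ⊥) [Module.Finite B (L2 P)]
    (hmin : ∀ q ∈ relKer P, ∀ s, algebraMap P.toExtension.Ring B (q s) ∈ 𝔫) :
    relKer P ≤ trivRel P := by
  have hle : (⊤ : Submodule B (L2 P)) ≤ 𝔫 • (⊤ : Submodule B (L2 P)) := by
    intro x _
    obtain ⟨q, rfl⟩ := oneT_surjective P x
    have h1 : oneT P q = ρ (d2 P (oneT P q)) := by
      rw [← LinearMap.comp_apply, hρ, LinearMap.id_apply]
    rw [h1, d2_oneT]
    have h2 := one_tmul_mem_smul_top P 𝔫 (q : relMod P) (hmin _ q.2)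
    have h3 : Submodule.map ρ (𝔫 • (⊤ : Submodule B (L1 P))) ≤ 𝔫 • (⊤ : Submodule B (L2 P)) := by
      rw [Submodule.map_smul'']
      exact Submodule.smul_mono le_rfl le_top
    exact h3 (Submodule.mem_map_of_mem h2)
  have htop : (⊤ : Submodule B (L2 P)) = ⊥ :=
    Submodule.eq_bot_of_le_smul_of_le_jacobson_bot 𝔫 ⊤ Module.Finite.fg_top hle h𝔫
  intro q hq
  have : oneT P ⟨q, hq⟩ = 0 := by
    have : oneT P ⟨q, hq⟩ ∈ (⊤ : Submodule B (L2 P)) := Submodule.mem_top
    rw [htop] at this
    exact this
  exact (oneT_eq_zero_iff P ⟨q, hq⟩).1 this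

end retraction

section koszulConverse

variable {A : Type u} {B : Type v} [CommRing A] [CommRing B] [Algebra A B]
variable {ι : Type w} {n : ℕ} (P : Algebra.Presentation A B ι (Fin n))

/-- the Koszul submodule of `Fin n → R`. -/
private noncomputable abbrev kosz : Submodule P.toExtension.Ring (Fin n → P.toExtension.Ring) :=
  Submodule.span P.toExtension.Ring
    {v : Fin n → P.toExtension.Ring | ∃ (i j : Fin n) (x : P.toExtension.Ring),
      v = rel P j • (Pi.single i x : Fin n → P.toExtension.Ring) -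
        rel P i • (Pi.single j x : Fin n → P.toExtension.Ring)}

private lemma triv_gen_mem (a b : relMod P) :
    (Finsupp.linearEquivFunOnFinite P.toExtension.Ring P.toExtension.Ring (Fin n))
      (jmap P a • b - jmap P b • a) ∈ kosz P := by
  classical
  induction a using Finsupp.induction_linear with
  | zero => simp
  | add a a' ha ha' =>
    have : jmap P (a + a') • b - jmap P b • (a + a') =
        (jmap P a • b - jmap P b • a) + (jmap P a' • b - jmap P b • a') := by
      rw [map_add, add_smul, smul_add]; abel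
    rw [this, map_add]
    exact Submodule.add_mem _ ha ha'
  | single i x =>
    induction b using Finsupp.induction_linear with
    | zero => simp
    | add b b' hb hb' =>
      have : jmap P (Finsupp.single i x) • (b + b') - jmap P (b + b') • Finsupp.single i x =
          (jmap P (Finsupp.single i x) • b - jmap P b • Finsupp.single i x) +
          (jmap P (Finsupp.single i x) • b' - jmap P b' • Finsupp.single i x) := by
        rw [map_add, add_smul, smul_add]; abel
      rw [this, map_add]
      exact Submodule.add_mem _ hb hb'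
    | single j y =>
      apply Submodule.subset_span
      refine ⟨j, i, x * y, ?_⟩
      rw [map_sub, map_smul, map_smul, jmap_single, jmap_single]
      ext l
      simp only [Finsupp.linearEquivFunOnFinite_single, Pi.sub_apply, Pi.smul_apply, smul_eq_mul,
        Pi.single_apply]
      split_ifs <;> ring

theorem koszulH1Zero_of_relKer_le (hle : relKer P ≤ trivRel P) :
    CInt.KoszulH1Zero (fun i : Fin n => rel P i) P.toExtension.Ring := by
  classical
  intro m hm
  let e := Finsupp.linearEquivFunOnFinite P.toExtension.Ring P.toExtension.Ring (Fin n)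
  have hq : e.symm m ∈ relKer P := by
    change jmap P (e.symm m) = 0
    rw [jmap, Finsupp.linearCombination_apply, Finsupp.sum_fintype _ _ (by simp)]
    rw [← hm]
    refine Finset.sum_congr rfl fun i _ => ?_
    simp [e, mul_comm]
  have h1 := hle hq
  have h2 : Submodule.map e.toLinearMap (trivRel P) ≤ kosz P := by
    rw [trivRel, Submodule.map_span, Submodule.span_le]
    rintro _ ⟨_, ⟨a, b, rfl⟩, rfl⟩
    exact triv_gen_mem P a b
  have h3 := h2 (Submodule.mem_map_of_mem h1)
  rwa [LinearEquiv.coe_coe, LinearEquiv.apply_symm_apply] at h3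

end koszulConverse

section minimal

variable {A : Type u} {B : Type v} [CommRing A] [CommRing B] [Algebra A B]

lemma C_mem_jacobson_bot [IsLocalRing A] (a : A) (ha : a ∈ IsLocalRing.maximalIdeal A) :
    (C a : MvPolynomial PEmpty.{w + 1} A) ∈ (⊥ : Ideal (MvPolynomial PEmpty.{w + 1} A)).jacobson := by
  rw [Ideal.mem_jacobson_bot]
  intro y
  rw [y.eq_C_of_isEmpty, ← map_mul, ← map_one (C : A →+* MvPolynomial PEmpty.{w + 1} A), ← map_add]
  apply IsUnit.map
  have h1 : a * y.coeff 0 ∈ IsLocalRing.maximalIdeal A := Ideal.mul_mem_right _ _ ha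
  by_contra h
  have h2 : a * y.coeff 0 + 1 ∈ IsLocalRing.maximalIdeal A := (IsLocalRing.mem_maximalIdeal _).2 h
  have h3 : (1 : A) ∈ IsLocalRing.maximalIdeal A := by
    have := Ideal.sub_mem _ h2 h1
    rwa [add_sub_cancel_left] at this
  exact (Ideal.ne_top_iff_one _).1 (IsLocalRing.maximalIdeal.isMaximal A).ne_top h3

lemma map_maximalIdeal_le_jacobson [IsLocalRing A] (hs : Function.Surjective (algebraMap A B)) :
    (IsLocalRing.maximalIdeal A).map (algebraMap A B) ≤ Ideal.jacobson ⊥ := by
  intro x hx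
  obtain ⟨a, ha, rfl⟩ := (Ideal.mem_map_iff_of_surjective _ hs).1 hx
  rw [Ideal.mem_jacobson_bot]
  intro y
  obtain ⟨y', rfl⟩ := hs y
  rw [← map_mul, ← map_one (algebraMap A B), ← map_add]
  apply IsUnit.map
  have h1 : a * y' ∈ IsLocalRing.maximalIdeal A := Ideal.mul_mem_right _ _ ha
  by_contra h
  have h2 : a * y' + 1 ∈ IsLocalRing.maximalIdeal A := (IsLocalRing.mem_maximalIdeal _).2 h
  have h3 : (1 : A) ∈ IsLocalRing.maximalIdeal A := by
    have := Ideal.sub_mem _ h2 h1
    rwa [add_sub_cancel_left] at this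
  exact (Ideal.ne_top_iff_one _).1 (IsLocalRing.maximalIdeal.isMaximal A).ne_top h3

/-- pure polynomial-ring form: Koszul `H₁ = 0` for `C (f i)` over `A[∅]` gives regularity over `A`. -/
lemma isWeaklyRegular_of_koszul_C [IsNoetherianRing A] [IsLocalRing A] {n : ℕ} (f : Fin n → A)
    (hf : ∀ i, f i ∈ IsLocalRing.maximalIdeal A)
    (hK : CInt.KoszulH1Zero (fun i : Fin n => (C (f i) : MvPolynomial PEmpty.{w + 1} A))
      (MvPolynomial PEmpty.{w + 1} A)) :
    IsWeaklyRegular A (List.ofFn f) := by
  have hrad : ∀ i, (C (f i) : MvPolynomial PEmpty.{w + 1} A) ∈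
      (⊥ : Ideal (MvPolynomial PEmpty.{w + 1} A)).jacobson := fun i => C_mem_jacobson_bot (f i) (hf i)
  have hreg := Groth.Agent.H15.isWeaklyRegular_of_koszulH1Zero
    (fun i : Fin n => (C (f i) : MvPolynomial PEmpty.{w + 1} A)) hrad (MvPolynomial PEmpty.{w + 1} A) hK
  have h1 : List.ofFn (fun i : Fin n => (C (f i) : MvPolynomial PEmpty.{w + 1} A)) =
      (List.ofFn f).map (C : A →+* MvPolynomial PEmpty.{w + 1} A) := by
    rw [List.map_ofFn]
    rfl
  rw [h1] at hreg
  refine (AddEquiv.isWeaklyRegular_congr (e := (isEmptyRingEquiv A PEmpty.{w + 1}).symm.toAddEquiv)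
    (as := List.ofFn f) ?_).2 hreg
  rw [List.forall₂_map_right_iff, List.forall₂_same]
  intro r _ x
  change (isEmptyRingEquiv A PEmpty.{w + 1}).symm (r • x) =
    C r • (isEmptyRingEquiv A PEmpty.{w + 1}).symm x
  rw [isEmptyRingEquiv_symm_apply, isEmptyRingEquiv_symm_apply, smul_eq_mul, smul_eq_mul, map_mul]

/-- pure polynomial-ring form of minimality. -/
lemma coeff_mem_of_linearCombination_eq_zero [IsLocalRing A] {n : ℕ} (f : Fin n → A)
    (hmin : ∀ q : Fin n → A, ∑ i, q i * f i = 0 → ∀ i, q i ∈ IsLocalRing.maximalIdeal A)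
    (q : Fin n →₀ MvPolynomial PEmpty.{w + 1} A)
    (hq : Finsupp.linearCombination (MvPolynomial PEmpty.{w + 1} A)
      (fun i : Fin n => (C (f i) : MvPolynomial PEmpty.{w + 1} A)) q = 0) (s : Fin n) :
    ∃ a ∈ IsLocalRing.maximalIdeal A, q s = C a := by
  have hc : ∀ i, q i = C ((q i).coeff 0) := fun i => (q i).eq_C_of_isEmpty
  have hsum : ∑ i, (q i).coeff 0 * f i = 0 := by
    have h1 : (C (∑ i, (q i).coeff 0 * f i) : MvPolynomial PEmpty.{w + 1} A) = 0 := by
      rw [← hq, Finsupp.linearCombination_apply, Finsupp.sum_fintype _ _ (by simp), map_sum]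
      refine Finset.sum_congr rfl fun i _ => ?_
      rw [map_mul, ← hc i]
      rfl
    exact C_injective _ _ (by rw [h1, map_zero])
  exact ⟨_, hmin _ hsum s, hc s⟩

/-- If `T²` of the quotient by minimal generators vanishes (with coefficients in `L₂`), the generators form a
regular sequence. -/
theorem isWeaklyRegular_of_subsingleton_T2 [IsNoetherianRing A] [IsLocalRing A]
    (hs : Function.Surjective (algebraMap A B)) {n : ℕ} (f : Fin n → A)
    (hf : ∀ i, f i ∈ IsLocalRing.maximalIdeal A)
    (hI : RingHom.ker (algebraMap A B) = Ideal.span (Set.range f))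
    (hmin : ∀ q : Fin n → A, ∑ i, q i * f i = 0 → ∀ i, q i ∈ IsLocalRing.maximalIdeal A)
    (hT2 : Subsingleton (T2 (quotPresGen.{u, v, w, 0} hs f hI) (L2 (quotPresGen.{u, v, w, 0} hs f hI)))) :
    IsWeaklyRegular A (List.ofFn f) := by
  classical
  let P := quotPresGen.{u, v, w, 0} hs f hI
  obtain ⟨ρ, hρ⟩ := exists_retraction_of_subsingleton_T2 P hT2
  haveI hnoeth : IsNoetherianRing P.toExtension.Ring :=
    inferInstanceAs (IsNoetherianRing (MvPolynomial PEmpty.{w + 1} A))
  haveI : Module.Finite P.toExtension.Ring (relKer P) := by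
    haveI : IsNoetherian P.toExtension.Ring (relMod P) := isNoetherian_of_isNoetherianRing_of_finite _ _
    infer_instance
  haveI : Module.Finite B (L2 P) := inferInstance
  have hminP : ∀ q ∈ relKer P, ∀ s, algebraMap P.toExtension.Ring B (q s) ∈
      (IsLocalRing.maximalIdeal A).map (algebraMap A B) := by
    intro q hq s
    obtain ⟨a, ha, hqa⟩ := coeff_mem_of_linearCombination_eq_zero.{u, w} f hmin q hq s
    have h2 := algebraMap_quotPresGen_C.{u, v, w, 0} hs f hI a
    have h3 : algebraMap P.toExtension.Ring B (q s) = algebraMap A B a := by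
      rw [← h2]
      exact congrArg _ hqa
    rw [h3]
    exact Ideal.mem_map_of_mem _ ha
  have hle := relKer_le_trivRel_of_retraction P ρ hρ _ (map_maximalIdeal_le_jacobson hs) hminP
  have hK := koszulH1Zero_of_relKer_le P hle
  exact isWeaklyRegular_of_koszul_C.{u, w} f hf hK

end minimal

section nine

variable (k : Type z) (A : Type u) (B : Type v) [CommRing k] [CommRing A] [CommRing B]
variable [Algebra k A] [Algebra A B] [Algebra k B] [IsScalarTower k A B]

/-- if `T¹(A/k, M) = T²(A/k, M) = 0`, then `T²(B/A, M) = 0 ↔ T²(B/k, M) = 0`. -/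
theorem subsingleton_T2_iff_of_base_vanishing {ι : Type w} {σ : Type t}
    (Q : Algebra.Presentation A B ι σ) (M : Type m) [AddCommGroup M] [Module B M] [Module A M]
    [IsScalarTower A B M]
    (h1 : Subsingleton (T1 (canon k A) M)) (h2 : Subsingleton (T2 (canon k A) M)) :
    Subsingleton (T2 Q M) ↔ Subsingleton (T2 (canon k B) M) := by
  let hα : PresHom (canon k A) (canon k B) := canonHom k A k B
  let hβ : PresHom (canon k B) Q := defaultPresHom _ _
  obtain ⟨-, -, -, x2, δ₀, δ₁, -, -, -, y3⟩ := nine_term_general (canon k A) Q (canon k B) hα hβ M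
  constructor
  · intro h
    refine ⟨fun a b => ?_⟩
    obtain ⟨a', rfl⟩ := (x2 a).1 (Subsingleton.elim _ _)
    obtain ⟨b', rfl⟩ := (x2 b).1 (Subsingleton.elim _ _)
    rw [Subsingleton.elim a' b']
  · intro h
    refine ⟨fun a b => ?_⟩
    obtain ⟨a', rfl⟩ := (y3 a).1 (Subsingleton.elim _ _)
    obtain ⟨b', rfl⟩ := (y3 b).1 (Subsingleton.elim _ _)
    rw [Subsingleton.elim a' b']

end nine

end Groth.Agent.H61.LS
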