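import Groth.Agent.H61.LS.Homotopy2

set_option linter.style.haveILetI false
set_option linter.unusedSectionVars false

/-! When is the class of `1 ⊗ q` zero in `L₂`? -/

open TensorProduct

namespace Groth.Agent.H61.LS

open CotT

universe u v w t m

variable {A : Type u} {B : Type v} {ι : Type w} {σ : Type t}
variable [CommRing A] [CommRing B] [Algebra A B]
variable (P : Algebra.Presentation A B ι σ)

lemma exists_one_tmul' {N : Type*} [AddCommMonoid N] [Module P.toExtension.Ring N]
    (x : B ⊗[P.toExtension.Ring] N) : ∃ f : N, x = (1 : B) ⊗ₜ f := by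
  induction x using TensorProduct.induction_on with
  | zero => exact ⟨0, by simp⟩
  | tmul b f =>
    obtain ⟨r, rfl⟩ := P.toExtension.algebraMap_surjective b
    refine ⟨r • f, ?_⟩
    rw [← TensorProduct.smul_tmul, Algebra.smul_def, mul_one]
  | add x y hx hy =>
    obtain ⟨f, rfl⟩ := hx
    obtain ⟨g, rfl⟩ := hy
    exact ⟨f + g, by rw [TensorProduct.tmul_add]⟩

/-- `1 ⊗ n = 0` in `B ⊗_R N` forces `n ∈ I N`. -/
lemma mem_smul_top_of_one_tmul_eq_zero {N : Type*} [AddCommGroup N] [Module P.toExtension.Ring N]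
    (n : N) (h : (1 : B) ⊗ₜ[P.toExtension.Ring] n = 0) :
    n ∈ P.toExtension.ker • (⊤ : Submodule P.toExtension.Ring N) := by
  let f : P.toExtension.Ring →ₐ[P.toExtension.Ring] B := Algebra.ofId _ _
  have hf : Function.Surjective f := P.toExtension.algebraMap_surjective
  let e := Ideal.quotientKerAlgEquivOfSurjective hf
  let Φ : B ⊗[P.toExtension.Ring] N →ₗ[P.toExtension.Ring] N ⧸ (RingHom.ker f • (⊤ : Submodule P.toExtension.Ring N)) :=
    (TensorProduct.quotTensorEquivQuotSMul N (RingHom.ker f)).toLinearMap ∘ₗ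
      LinearMap.rTensor N e.symm.toLinearMap
  have h1 : Φ ((1 : B) ⊗ₜ n) = Submodule.Quotient.mk n := by
    simp only [Φ, LinearMap.coe_comp, LinearEquiv.coe_coe, Function.comp_apply,
      LinearMap.rTensor_tmul, AlgEquiv.toLinearMap_apply, map_one]
    rw [← map_one (Ideal.Quotient.mk (RingHom.ker f)), TensorProduct.quotTensorEquivQuotSMul_mk_tmul,
      one_smul]
  rw [h, map_zero] at h1
  have h2 := (Submodule.Quotient.mk_eq_zero _).1 h1.symm
  exact h2

lemma mem_smul_top_of_one_tmul_eq_zero' {N : Type*} [AddCommMonoid N] [Module P.toExtension.Ring N]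
    (n : N) (h : (1 : B) ⊗ₜ[P.toExtension.Ring] n = 0) :
    n ∈ P.toExtension.ker • (⊤ : Submodule P.toExtension.Ring N) := by
  letI : AddCommGroup N := Module.addCommMonoidToAddCommGroup P.toExtension.Ring
  exact mem_smul_top_of_one_tmul_eq_zero P n h

/-- `I Q ⊆ F₀`. -/
lemma smul_top_relKer_le_trivRel (q : relKer P)
    (hq : q ∈ P.toExtension.ker • (⊤ : Submodule P.toExtension.Ring (relKer P))) :
    (q : relMod P) ∈ trivRel P := by
  refine Submodule.smul_induction_on hq ?_ ?_
  · intro r hr a _
    have hr' : r ∈ LinearMap.range (jmap P) := by rw [range_jmap]; exact hr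
    obtain ⟨f, rfl⟩ := hr'
    have ha : jmap P (a : relMod P) = 0 := a.2
    have : ((jmap P f • a : relKer P) : relMod P) = jmap P f • (a : relMod P) - jmap P (a : relMod P) • f := by
      rw [ha, zero_smul, sub_zero]
      rfl
    rw [this]
    exact Submodule.subset_span ⟨f, a, rfl⟩
  · intro x y hx hy
    rw [Submodule.coe_add]
    exact Submodule.add_mem _ hx hy

theorem mk_one_tmul_eq_zero_iff (q : relKer P) :
    (Submodule.Quotient.mk ((1 : B) ⊗ₜ[P.toExtension.Ring] q) : L2 P) = 0 ↔
      (q : relMod P) ∈ trivRel P := by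
  constructor
  · intro h
    rw [Submodule.Quotient.mk_eq_zero] at h
    obtain ⟨y, hy⟩ := h
    obtain ⟨t, rfl⟩ := exists_one_tmul' P y
    rw [LinearMap.baseChange_tmul] at hy
    have h0 : (1 : B) ⊗ₜ[P.toExtension.Ring] (q - (trivRelKer P).subtype t) = 0 := by
      have := (map_sub (TensorProduct.mk P.toExtension.Ring B (relKer P) 1) q ((trivRelKer P).subtype t))
      rw [TensorProduct.mk_apply, TensorProduct.mk_apply, TensorProduct.mk_apply] at this
      rw [this, hy, sub_self]
    have h1 := smul_top_relKer_le_trivRel P _ (mem_smul_top_of_one_tmul_eq_zero' P _ h0)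
    have h2 : (q : relMod P) = ((q - (trivRelKer P).subtype t : relKer P) : relMod P) +
        (((trivRelKer P).subtype t : relKer P) : relMod P) := by
      rw [Submodule.coe_sub]; abel
    rw [h2]
    exact Submodule.add_mem _ h1 t.2
  · exact mk_one_tmul_eq_zero P q


/-- `q ↦ [1 ⊗ q]`, `Q → L₂`. -/
noncomputable def oneT : relKer P →+ L2 P where
  toFun q := Submodule.Quotient.mk ((1 : B) ⊗ₜ[P.toExtension.Ring] q)
  map_zero' := by rw [TensorProduct.tmul_zero]; rfl
  map_add' q q' := by rw [TensorProduct.tmul_add]; rfl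

lemma oneT_apply (q : relKer P) :
    oneT P q = Submodule.Quotient.mk ((1 : B) ⊗ₜ[P.toExtension.Ring] q) := rfl

lemma oneT_smul (r : P.toExtension.Ring) (q : relKer P) :
    oneT P (r • q) = algebraMap P.toExtension.Ring B r • oneT P q := by
  rw [oneT_apply, oneT_apply, ← Submodule.Quotient.mk_smul, TensorProduct.tmul_smul,
    TensorProduct.smul_tmul', TensorProduct.smul_tmul', Algebra.smul_def, mul_one,
    smul_eq_mul, mul_one]

lemma oneT_surjective : Function.Surjective (oneT P) := by
  intro z
  obtain ⟨x, rfl⟩ := Submodule.Quotient.mk_surjective _ z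
  obtain ⟨q, rfl⟩ := exists_one_tmul' P x
  exact ⟨q, rfl⟩

lemma oneT_eq_zero_iff (q : relKer P) : oneT P q = 0 ↔ (q : relMod P) ∈ trivRel P :=
  mk_one_tmul_eq_zero_iff P q

section Hom

universe u' v' w' t'

variable {A' : Type u'} {B' : Type v'} {ι' : Type w'} {σ' : Type t'}
variable [CommRing A'] [CommRing B'] [Algebra A' B']
variable [Algebra A A'] [Algebra B B'] [Algebra A B'] [IsScalarTower A A' B'] [IsScalarTower A B B']
variable {P} {P' : Algebra.Presentation A' B' ι' σ'}

lemma L2map_oneT (h : PresHom P P') (q : relKer P) : h.L2map (oneT P q) = oneT P' (h.relKerMap q) := by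
  rw [oneT_apply, PresHom.L2map_mk_tmul, map_one, oneT_apply]

end Hom

end Groth.Agent.H61.LS
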