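import Groth.Agent.H61.LS.CompSplit
import Groth.Agent.H61.LS.L2Basic

set_option linter.style.haveILetI false
set_option linter.unusedSectionVars false

/-! Degree 2 of the split sequence of complexes for `A → B → C`. -/

open TensorProduct

namespace Groth.Agent.H61.LS

open CotT MvPolynomial

universe u v z w t w' t' m

section General

universe w₁ w₂


lemma trivial_rel_of_flat {R S : Type*} [CommRing R] [CommRing S] [Algebra R S] [Module.Flat R S]
    {τ : Type*} [Fintype τ] (r : τ → R) (c : τ → S) (h : ∑ s, c s * algebraMap R S (r s) = 0) :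
    ∃ (k : ℕ) (a : τ → Fin k → R) (y : Fin k → S),
      (∀ s, c s = ∑ j, y j * algebraMap R S (a s j)) ∧ ∀ j, ∑ s, a s j * r s = 0 := by
  obtain ⟨k, a, y, h1, h2⟩ := Module.Flat.isTrivialRelation_of_sum_smul_eq_zero
      (R := R) (M := S) (f := r) (x := c) (by
    rw [← h]
    refine Finset.sum_congr rfl fun s _ => ?_
    rw [Algebra.smul_def, mul_comm])
  refine ⟨k, a, y, fun s => ?_, fun j => ?_⟩
  · rw [h1 s]
    refine Finset.sum_congr rfl fun j _ => ?_
    rw [Algebra.smul_def, mul_comm]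
  · rw [← h2 j]
    refine Finset.sum_congr rfl fun s _ => ?_
    rw [mul_comm]

variable (A : Type u) [CommRing A] (S₁ : Type w₁) (S₂ : Type w₂)

lemma flat_rename_inr :
    letI : Algebra (MvPolynomial S₂ A) (MvPolynomial (S₁ ⊕ S₂) A) :=
      (rename (Sum.inr : S₂ → S₁ ⊕ S₂) : MvPolynomial S₂ A →ₐ[A] MvPolynomial (S₁ ⊕ S₂) A).toRingHom.toAlgebra
    Module.Flat (MvPolynomial S₂ A) (MvPolynomial (S₁ ⊕ S₂) A) := by
  letI : Algebra (MvPolynomial S₂ A) (MvPolynomial (S₁ ⊕ S₂) A) :=
      (rename (Sum.inr : S₂ → S₁ ⊕ S₂) : MvPolynomial S₂ A →ₐ[A] MvPolynomial (S₁ ⊕ S₂) A).toRingHom.toAlgebra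
  let e : MvPolynomial (S₁ ⊕ S₂) A ≃ₗ[MvPolynomial S₂ A] MvPolynomial S₁ (MvPolynomial S₂ A) :=
    { (sumAlgEquiv A S₁ S₂).toLinearEquiv.toAddEquiv with
      map_smul' := fun r x => by
        have h1 : r • x = rename Sum.inr r * x := rfl
        have h2 := DFunLike.congr_fun (sumAlgEquiv_comp_rename_inr (R := A) (S₁ := S₁) (S₂ := S₂)) r
        simp only [AlgHom.comp_apply] at h2
        change (sumAlgEquiv A S₁ S₂) (r • x) = r • (sumAlgEquiv A S₁ S₂) x
        rw [h1, map_mul]
        erw [h2]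
        rw [IsScalarTower.toAlgHom_apply, Algebra.smul_def] }
  exact Module.Flat.of_linearEquiv e

lemma trivial_rel_rename_inr {τ : Type*} [Fintype τ] (r : τ → MvPolynomial S₂ A)
    (c : τ → MvPolynomial (S₁ ⊕ S₂) A)
    (h : ∑ s, c s * rename Sum.inr (r s) = 0) :
    ∃ (k : ℕ) (a : τ → Fin k → MvPolynomial S₂ A) (y : Fin k → MvPolynomial (S₁ ⊕ S₂) A),
      (∀ s, c s = ∑ j, y j * rename Sum.inr (a s j)) ∧ ∀ j, ∑ s, a s j * r s = 0 := by
  letI : Algebra (MvPolynomial S₂ A) (MvPolynomial (S₁ ⊕ S₂) A) :=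
      (rename (Sum.inr : S₂ → S₁ ⊕ S₂) : MvPolynomial S₂ A →ₐ[A] MvPolynomial (S₁ ⊕ S₂) A).toRingHom.toAlgebra
  haveI : Module.Flat (MvPolynomial S₂ A) (MvPolynomial (S₁ ⊕ S₂) A) := flat_rename_inr A S₁ S₂
  exact trivial_rel_of_flat r c h

end General

variable {A : Type u} {B : Type v} {C : Type z} [CommRing A] [CommRing B] [CommRing C]
variable [Algebra A B] [Algebra B C] [Algebra A C] [IsScalarTower A B C]
variable {ι : Type w} {σ : Type t} {ι' : Type w'} {σ' : Type t'}
variable (P : Algebra.Presentation A B ι σ) (Q : Algebra.Presentation B C ι' σ')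

/-- the kernel of `R'' → R'` is generated by the `inr` relations. -/
lemma exists_inr_of_ker_beta (x : (Q.comp P).toExtension.Ring) (hx : (beta P Q).ringHom x = 0) :
    ∃ c : σ →₀ (Q.comp P).toExtension.Ring, jmap (Q.comp P) (Finsupp.mapDomain Sum.inr c) = x := by
  have h1 : x ∈ RingHom.ker (Q.toGenerators.ofComp P.toGenerators).toAlgHom := hx
  rw [← Algebra.Generators.map_toComp_ker, ← P.span_range_relation_eq_ker, Ideal.map_span] at h1
  have h2 : (⇑(Q.toGenerators.toComp P.toGenerators).toAlgHom '' Set.range P.relation) =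
      Set.range (fun s : σ => (Q.comp P).relation (Sum.inr s)) := by
    ext y
    constructor
    · rintro ⟨_, ⟨s, rfl⟩, rfl⟩
      refine ⟨s, ?_⟩
      change (Q.comp P).relation (Sum.inr s) = _
      rw [Algebra.Presentation.comp_relation_inr, Algebra.Generators.toComp_toAlgHom]
    · rintro ⟨s, rfl⟩
      refine ⟨_, ⟨s, rfl⟩, ?_⟩
      change _ = (Q.comp P).relation (Sum.inr s)
      rw [Algebra.Presentation.comp_relation_inr, Algebra.Generators.toComp_toAlgHom]
  rw [h2] at h1
  have h3 : x ∈ Ideal.span (Set.range (fun s : σ => rel (Q.comp P) (Sum.inr s))) := h1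
  obtain ⟨c, hc⟩ := Finsupp.mem_ideal_span_range_iff_exists_finsupp.1 h3
  refine ⟨c, ?_⟩
  rw [← hc, jmap, Finsupp.linearCombination_mapDomain, Finsupp.linearCombination_apply]
  rfl

lemma beta_relModMap_surjective : Function.Surjective (beta P Q).relModMap := by
  intro f'
  induction f' using Finsupp.induction_linear with
  | zero => exact ⟨0, map_zero _⟩
  | add f g hf hg =>
    obtain ⟨f1, rfl⟩ := hf
    obtain ⟨g1, rfl⟩ := hg
    exact ⟨f1 + g1, map_add _ _ _⟩
  | single s' r' =>
    obtain ⟨r, rfl⟩ := beta_ringHom_surjective P Q r'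
    exact ⟨Finsupp.single (Sum.inl s') r, beta_relModMap_single_inl P Q s' r⟩

lemma beta_relModMap_mapDomain_inr (c : σ →₀ (Q.comp P).toExtension.Ring) :
    (beta P Q).relModMap (Finsupp.mapDomain Sum.inr c) = 0 := by
  induction c using Finsupp.induction_linear with
  | zero => simp
  | add f g hf hg => rw [Finsupp.mapDomain_add, map_add, hf, hg, add_zero]
  | single s r => rw [Finsupp.mapDomain_single, beta_relModMap_single_inr]

lemma beta_relKerMap_surjective : Function.Surjective (beta P Q).relKerMap := by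
  intro q'
  obtain ⟨f, hf⟩ := beta_relModMap_surjective P Q (q' : relMod Q)
  have h1 : (beta P Q).ringHom (jmap (Q.comp P) f) = 0 := by
    rw [← PresHom.jmap_relModMap, hf]
    exact q'.2
  obtain ⟨c, hc⟩ := exists_inr_of_ker_beta P Q _ h1
  refine ⟨⟨f - Finsupp.mapDomain Sum.inr c, ?_⟩, ?_⟩
  · change jmap (Q.comp P) _ = 0
    rw [map_sub, hc, sub_self]
  · apply Subtype.ext
    rw [PresHom.relKerMap_coe]
    change (beta P Q).relModMap (f - Finsupp.mapDomain Sum.inr c) = _
    rw [map_sub, beta_relModMap_mapDomain_inr, sub_zero, hf]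

lemma trivRel_beta_surjective (t' : relMod Q) (ht' : t' ∈ trivRel Q) :
    ∃ t ∈ trivRel (Q.comp P), (beta P Q).relModMap t = t' := by
  induction ht' using Submodule.span_induction with
  | mem x hx =>
    obtain ⟨a', b', rfl⟩ := hx
    obtain ⟨a, rfl⟩ := beta_relModMap_surjective P Q a'
    obtain ⟨b, rfl⟩ := beta_relModMap_surjective P Q b'
    refine ⟨jmap (Q.comp P) a • b - jmap (Q.comp P) b • a, Submodule.subset_span ⟨a, b, rfl⟩, ?_⟩
    rw [map_sub, LinearMap.map_smulₛₗ, LinearMap.map_smulₛₗ, PresHom.jmap_relModMap,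
      PresHom.jmap_relModMap]
  | zero => exact ⟨0, Submodule.zero_mem _, map_zero _⟩
  | add x y _ _ hx hy =>
    obtain ⟨t1, h1, rfl⟩ := hx
    obtain ⟨t2, h2, rfl⟩ := hy
    exact ⟨t1 + t2, Submodule.add_mem _ h1 h2, map_add _ _ _⟩
  | smul r' x _ hx =>
    obtain ⟨t1, h1, rfl⟩ := hx
    obtain ⟨r, rfl⟩ := beta_ringHom_surjective P Q r'
    exact ⟨r • t1, Submodule.smul_mem _ _ h1, LinearMap.map_smulₛₗ _ _ _⟩

lemma beta_relModMap_apply (f : relMod (Q.comp P)) (s' : σ') :
    (beta P Q).relModMap f s' = (beta P Q).ringHom (f (Sum.inl s')) := by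
  classical
  induction f using Finsupp.induction_linear with
  | zero => simp
  | add f g hf hg => rw [map_add, Finsupp.add_apply, hf, hg, Finsupp.add_apply, map_add]
  | single x r =>
    cases x with
    | inl s₀ =>
      rw [beta_relModMap_single_inl, Finsupp.single_apply, Finsupp.single_apply]
      by_cases h : s₀ = s'
      · rw [if_pos h, if_pos (by rw [h])]
      · rw [if_neg h, if_neg (by simpa using h), map_zero]
    | inr s =>
      rw [beta_relModMap_single_inr, Finsupp.single_apply, if_neg (by simp), map_zero]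
      rfl

/-- modulo trivial relations, elements of the kernel of `F'' → F'` are `inr`-supported. -/
lemma ker_beta_relModMap_le (f : relMod (Q.comp P)) (hf : (beta P Q).relModMap f = 0) :
    f ∈ trivRel (Q.comp P) ⊔
      LinearMap.range (Finsupp.lmapDomain (Q.comp P).toExtension.Ring (Q.comp P).toExtension.Ring
        (Sum.inr : σ → σ' ⊕ σ)) := by
  rw [← Finsupp.sum_single f]
  refine Submodule.sum_mem _ ?_
  intro x _
  cases x with
  | inr s =>
    refine Submodule.mem_sup_right ⟨Finsupp.single s (f (Sum.inr s)), ?_⟩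
    rw [Finsupp.lmapDomain_apply, Finsupp.mapDomain_single]
  | inl s' =>
    have h1 : (beta P Q).ringHom (f (Sum.inl s')) = 0 := by
      rw [← beta_relModMap_apply, hf]
      rfl
    obtain ⟨c, hc⟩ := exists_inr_of_ker_beta P Q _ h1
    set e : relMod (Q.comp P) := Finsupp.single (Sum.inl s') 1 with he
    set g : relMod (Q.comp P) := Finsupp.mapDomain Sum.inr c with hg
    have h2 : Finsupp.single (Sum.inl s') (f (Sum.inl s')) =
        (jmap (Q.comp P) g • e - jmap (Q.comp P) e • g) + jmap (Q.comp P) e • g := by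
      rw [sub_add_cancel, hc, he, Finsupp.smul_single, smul_eq_mul, mul_one]
    rw [h2]
    refine Submodule.add_mem _ (Submodule.mem_sup_left (Submodule.subset_span ⟨g, e, rfl⟩))
      (Submodule.mem_sup_right ?_)
    refine Submodule.smul_mem _ _ ⟨c, ?_⟩
    rw [Finsupp.lmapDomain_apply]


lemma rel_comp_inr (s : σ) : rel (Q.comp P) (Sum.inr s) = (alpha P Q).ringHom (rel P s) := by
  rw [alpha_ringHom]
  exact Algebra.Presentation.comp_relation_inr Q P s

lemma trivial_rel_alpha {τ : Type*} [Fintype τ] (r : τ → P.toExtension.Ring)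
    (c : τ → (Q.comp P).toExtension.Ring)
    (h : ∑ s, c s * (alpha P Q).ringHom (r s) = 0) :
    ∃ (k : ℕ) (a : τ → Fin k → P.toExtension.Ring) (y : Fin k → (Q.comp P).toExtension.Ring),
      (∀ s, c s = ∑ j, y j * (alpha P Q).ringHom (a s j)) ∧ ∀ j, ∑ s, a s j * r s = 0 := by
  simp_rw [alpha_ringHom] at h ⊢
  exact trivial_rel_rename_inr A ι' ι r c h

/-- the flatness step: an `inr`-supported relation of the composite is a combination of relations of `P`. -/
lemma flat_step (c : σ →₀ (Q.comp P).toExtension.Ring)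
    (hc : jmap (Q.comp P) (Finsupp.mapDomain Sum.inr c) = 0) :
    ∃ (k : ℕ) (y : Fin k → (Q.comp P).toExtension.Ring) (q : Fin k → relKer P),
      Finsupp.mapDomain Sum.inr c = ∑ j, y j • (alpha P Q).relModMap (q j : relMod P) := by
  classical
  have h0 : ∑ s : c.support, c s.1 * (alpha P Q).ringHom (rel P s.1) = 0 := by
    rw [jmap, Finsupp.linearCombination_mapDomain, Finsupp.linearCombination_apply, Finsupp.sum,
      ← Finset.sum_coe_sort] at hc
    rw [← hc]
    refine Finset.sum_congr rfl fun s _ => ?_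
    change _ = c s.1 * rel (Q.comp P) (Sum.inr s.1)
    rw [rel_comp_inr]
  obtain ⟨k, a, y, h1, h2⟩ := trivial_rel_alpha P Q (fun s : c.support => rel P s.1)
    (fun s : c.support => c s.1) h0
  refine ⟨k, y, fun j => ⟨∑ s : c.support, Finsupp.single s.1 (a s j), ?_⟩, ?_⟩
  · change jmap P _ = 0
    rw [map_sum, ← h2 j]
    refine Finset.sum_congr rfl fun s _ => ?_
    rw [jmap_single]
  · have h3 : Finsupp.mapDomain Sum.inr c =
        ∑ s : c.support, Finsupp.single (Sum.inr s.1 : σ' ⊕ σ) (c s.1) := by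
      conv_lhs => rw [← Finsupp.sum_single c]
      rw [Finsupp.sum, Finsupp.mapDomain_finsetSum, ← Finset.sum_coe_sort]
      refine Finset.sum_congr rfl fun s _ => ?_
      rw [Finsupp.mapDomain_single]
    rw [h3]
    simp_rw [map_sum, Finset.smul_sum]
    rw [Finset.sum_comm]
    refine Finset.sum_congr rfl fun s _ => ?_
    rw [h1 s, Finsupp.single_finsetSum]
    refine Finset.sum_congr rfl fun j _ => ?_
    rw [alpha_relModMap_single, Finsupp.smul_single, smul_eq_mul]


lemma L2map_beta_surjective : Function.Surjective (beta P Q).L2map := by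
  intro y
  obtain ⟨q', rfl⟩ := oneT_surjective Q y
  obtain ⟨q, rfl⟩ := beta_relKerMap_surjective P Q q'
  exact ⟨oneT (Q.comp P) q, L2map_oneT _ q⟩

lemma L2map_beta_alpha (z : L2 P) : (beta P Q).L2map ((alpha P Q).L2map z) = 0 := by
  obtain ⟨q, rfl⟩ := oneT_surjective P z
  rw [L2map_oneT, L2map_oneT]
  have : (beta P Q).relKerMap ((alpha P Q).relKerMap q) = 0 := by
    apply Subtype.ext
    rw [PresHom.relKerMap_coe, PresHom.relKerMap_coe]
    exact beta_alpha_relModMap P Q _
  rw [this, map_zero]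

/-- the kernel of `L₂(W) → L₂(Q)` is generated over `C` by the image of `L₂(P)`. -/
lemma ker_L2map_beta_le (z : L2 (Q.comp P)) (hz : (beta P Q).L2map z = 0) :
    z ∈ Submodule.span C (Set.range (alpha P Q).L2map) := by
  obtain ⟨q, rfl⟩ := oneT_surjective (Q.comp P) z
  rw [L2map_oneT, oneT_eq_zero_iff, PresHom.relKerMap_coe] at hz
  obtain ⟨t, ht, htq⟩ := trivRel_beta_surjective P Q _ hz
  have h1 : (beta P Q).relModMap ((q : relMod (Q.comp P)) - t) = 0 := by
    rw [map_sub, htq, sub_self]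
  have h2 := ker_beta_relModMap_le P Q _ h1
  obtain ⟨t₂, ht₂, g, ⟨c, rfl⟩, h3⟩ := Submodule.mem_sup.1 h2
  rw [Finsupp.lmapDomain_apply] at h3
  have h4 : (q : relMod (Q.comp P)) = (t + t₂) + Finsupp.mapDomain Sum.inr c := by
    rw [add_assoc, h3]; abel
  have h5 : Finsupp.mapDomain Sum.inr c ∈ relKer (Q.comp P) := by
    have : Finsupp.mapDomain Sum.inr c = (q : relMod (Q.comp P)) - (t + t₂) := by rw [h4]; abel
    rw [this]
    exact Submodule.sub_mem _ q.2 (trivRel_le_relKer _ (Submodule.add_mem _ ht ht₂))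
  obtain ⟨k, y, qs, h6⟩ := flat_step P Q c h5
  have h7 : q = ⟨t + t₂, trivRel_le_relKer _ (Submodule.add_mem _ ht ht₂)⟩ +
      ∑ j, y j • (alpha P Q).relKerMap (qs j) := by
    apply Subtype.ext
    rw [Submodule.coe_add, Submodule.coe_sum, h4, h6]
    rfl
  rw [h7, map_add, (oneT_eq_zero_iff _ _).2 (Submodule.add_mem _ ht ht₂), zero_add, map_sum]
  refine Submodule.sum_mem _ fun j _ => ?_
  rw [oneT_smul, ← L2map_oneT]
  exact Submodule.smul_mem _ _ (Submodule.subset_span ⟨_, rfl⟩)

section Pull2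

variable (M : Type m) [AddCommGroup M] [Module C M] [Module B M] [IsScalarTower B C M]

lemma pull2_beta_injective (ψ : L2 Q →ₗ[C] M) (h : (beta P Q).pull2 M ψ = 0) : ψ = 0 := by
  apply LinearMap.ext
  intro y
  obtain ⟨z, rfl⟩ := L2map_beta_surjective P Q y
  rw [← PresHom.pull2_apply, h]
  rfl

lemma pull2_alpha_beta (ψ : L2 Q →ₗ[C] M) : (alpha P Q).pull2 M ((beta P Q).pull2 M ψ) = 0 := by
  apply LinearMap.ext
  intro z
  rw [PresHom.pull2_apply, PresHom.pull2_apply, L2map_beta_alpha, map_zero]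
  rfl

/-- `L₂(W) → L₂(Q)` as a `C`-linear map. -/
noncomputable def betaL2lin : L2 (Q.comp P) →ₗ[C] L2 Q where
  toFun := (beta P Q).L2map
  map_add' := map_add _
  map_smul' c x := by
    rw [LinearMap.map_smulₛₗ]
    rfl

lemma pull2_exact (φ : L2 (Q.comp P) →ₗ[C] M) (h : (alpha P Q).pull2 M φ = 0) :
    ∃ ψ : L2 Q →ₗ[C] M, (beta P Q).pull2 M ψ = φ := by
  have hsurj : Function.Surjective (betaL2lin P Q) := L2map_beta_surjective P Q
  have hker : LinearMap.ker (betaL2lin P Q) ≤ LinearMap.ker φ := by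
    intro z hz
    have h1 : z ∈ Submodule.span C (Set.range (alpha P Q).L2map) := ker_L2map_beta_le P Q z hz
    have h2 : Submodule.span C (Set.range (alpha P Q).L2map) ≤ LinearMap.ker φ := by
      rw [Submodule.span_le]
      rintro _ ⟨x, rfl⟩
      change φ ((alpha P Q).L2map x) = 0
      rw [← PresHom.pull2_apply, h]
      rfl
    exact h2 h1
  refine ⟨((LinearMap.ker (betaL2lin P Q)).liftQ φ hker).comp
    ((betaL2lin P Q).quotKerEquivOfSurjective hsurj).symm.toLinearMap, ?_⟩
  apply LinearMap.ext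
  intro z
  rw [PresHom.pull2_apply, LinearMap.comp_apply]
  have : ((betaL2lin P Q).quotKerEquivOfSurjective hsurj).symm ((beta P Q).L2map z) =
      Submodule.Quotient.mk z := by
    rw [LinearEquiv.symm_apply_eq]
    rfl
  rw [LinearEquiv.coe_coe, this, Submodule.liftQ_apply]

end Pull2

end Groth.Agent.H61.LS
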