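import Groth.Agent.H61.LS.RegSeq

set_option linter.style.haveILetI false
set_option linter.unusedSectionVars false

/-! The composite presentation for `A → B → C` and its two morphisms of presentations. -/

open TensorProduct

namespace Groth.Agent.H61.LS

open CotT MvPolynomial

universe u v z w t w' t' m

variable {A : Type u} {B : Type v} {C : Type z} [CommRing A] [CommRing B] [CommRing C]
variable [Algebra A B] [Algebra B C] [Algebra A C] [IsScalarTower A B C]
variable {ι : Type w} {σ : Type t} {ι' : Type w'} {σ' : Type t'}
variable (P : Algebra.Presentation A B ι σ) (Q : Algebra.Presentation B C ι' σ')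

/-- the morphism `P → Q.comp P`. -/
noncomputable def alpha : PresHom P (Q.comp P) where
  hom := Q.toGenerators.toComp P.toGenerators
  relVal s := Finsupp.single (Sum.inr s) 1
  jmap_relVal s := by
    rw [jmap_single, one_mul]
    change (Q.comp P).relation (Sum.inr s) = (Q.toGenerators.toComp P.toGenerators).toAlgHom (P.relation s)
    rw [Algebra.Presentation.comp_relation_inr, Algebra.Generators.toComp_toAlgHom]

/-- the morphism `Q.comp P → Q`. -/
noncomputable def beta : PresHom (Q.comp P) Q where
  hom := Q.toGenerators.ofComp P.toGenerators
  relVal := Sum.elim (fun s' => Finsupp.single s' 1) (fun _ => 0)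
  jmap_relVal s := by
    cases s with
    | inl s' =>
      rw [Sum.elim_inl, jmap_single, one_mul]
      exact (Algebra.Presentation.comp_aeval_relation_inl Q P s').symm
    | inr s =>
      rw [Sum.elim_inr, map_zero]
      change 0 = (Q.toGenerators.ofComp P.toGenerators).toAlgHom ((Q.comp P).relation (Sum.inr s))
      rw [Algebra.Presentation.comp_relation_inr, Algebra.Generators.toAlgHom_ofComp_rename]
      have : algebraMap P.Ring B (P.relation s) = 0 := P.relation_mem_ker s
      rw [this, map_zero]

lemma alpha_ringHom (x : P.toExtension.Ring) :
    (alpha P Q).ringHom x = rename Sum.inr x := by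
  change (Q.toGenerators.toComp P.toGenerators).toAlgHom x = _
  rw [Algebra.Generators.toComp_toAlgHom]

lemma alpha_relModMap_single (s : σ) (r : P.toExtension.Ring) :
    (alpha P Q).relModMap (Finsupp.single s r) = Finsupp.single (Sum.inr s) ((alpha P Q).ringHom r) := by
  rw [PresHom.relModMap_single]
  change _ • Finsupp.single (Sum.inr s) 1 = _
  rw [Finsupp.smul_single, smul_eq_mul, mul_one]

lemma beta_relModMap_single_inl (s' : σ') (r : (Q.comp P).toExtension.Ring) :
    (beta P Q).relModMap (Finsupp.single (Sum.inl s') r) = Finsupp.single s' ((beta P Q).ringHom r) := by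
  rw [PresHom.relModMap_single]
  change _ • Finsupp.single s' 1 = _
  rw [Finsupp.smul_single, smul_eq_mul, mul_one]

lemma beta_relModMap_single_inr (s : σ) (r : (Q.comp P).toExtension.Ring) :
    (beta P Q).relModMap (Finsupp.single (Sum.inr s) r) = 0 := by
  rw [PresHom.relModMap_single]
  change _ • (0 : relMod Q) = _
  rw [smul_zero]

lemma beta_ringHom_surjective : Function.Surjective (beta P Q).ringHom :=
  Algebra.Generators.toAlgHom_ofComp_surjective Q.toGenerators P.toGenerators

lemma beta_alpha_relModMap (f : relMod P) : (beta P Q).relModMap ((alpha P Q).relModMap f) = 0 := by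
  induction f using Finsupp.induction_linear with
  | zero => simp
  | add f g hf hg => rw [map_add, map_add, hf, hg, add_zero]
  | single s r => rw [alpha_relModMap_single, beta_relModMap_single_inr]

end Groth.Agent.H61.LS
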