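import Groth.Agent.H61.LS.CompSetup

set_option linter.style.haveILetI false
set_option linter.unusedSectionVars false

/-! Degrees 0 and 1 of the comparison `L•(P) → L•(Q.comp P) → L•(Q)`: split exactness after
`Hom(-, M)`. -/

open TensorProduct

namespace Groth.Agent.H61.LS

open CotT MvPolynomial

universe u v z w t w' t' m

variable {A : Type u} {B : Type v} {C : Type z} [CommRing A] [CommRing B] [CommRing C]
variable [Algebra A B] [Algebra B C] [Algebra A C] [IsScalarTower A B C]
variable {ι : Type w} {σ : Type t} {ι' : Type w'} {σ' : Type t'}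
variable (P : Algebra.Presentation A B ι σ) (Q : Algebra.Presentation B C ι' σ')

section L0

lemma basis_eq {A : Type u} {B : Type v} [CommRing A] [CommRing B] [Algebra A B] {ι : Type w}
    {σ : Type t} (P : Algebra.Presentation A B ι σ) (i : ι) :
    P.cotangentSpaceBasis i =
      ((1 : B) ⊗ₜ[P.toExtension.Ring] KaehlerDifferential.D A P.toExtension.Ring (X i) : L0 P) :=
  Algebra.Generators.cotangentSpaceBasis_apply _ _

lemma L0map_tmul {A : Type u} {B : Type v} [CommRing A] [CommRing B] [Algebra A B] {ι : Type w}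
    {σ : Type t} {A' : Type*} {B' : Type*} {ι' σ' : Type*} [CommRing A'] [CommRing B'] [Algebra A' B']
    [Algebra A A'] [Algebra B B'] [Algebra A B'] [IsScalarTower A A' B'] [IsScalarTower A B B']
    {P : Algebra.Presentation A B ι σ} {P' : Algebra.Presentation A' B' ι' σ'} (h : PresHom P P')
    (b : B) (r : P.toExtension.Ring) :
    h.L0map ((b ⊗ₜ[P.toExtension.Ring] KaehlerDifferential.D A P.toExtension.Ring r : L0 P)) =
      ((algebraMap B B' b) ⊗ₜ[P'.toExtension.Ring]
        KaehlerDifferential.D A' P'.toExtension.Ring (h.ringHom r) : L0 P') := by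
  rw [PresHom.L0map_apply]
  exact Algebra.Extension.CotangentSpace.map_tmul _ _ _

lemma L0map_alpha_basis (i : ι) :
    (alpha P Q).L0map (P.cotangentSpaceBasis i) = (Q.comp P).cotangentSpaceBasis (Sum.inr i) := by
  rw [basis_eq, basis_eq, L0map_tmul, map_one, alpha_ringHom, rename_X]

lemma L0map_beta_basis_inl (i' : ι') :
    (beta P Q).L0map ((Q.comp P).cotangentSpaceBasis (Sum.inl i')) = Q.cotangentSpaceBasis i' := by
  rw [basis_eq, basis_eq, L0map_tmul, map_one]
  have : (beta P Q).ringHom (X (Sum.inl i')) = X i' := by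
    change (Q.toGenerators.ofComp P.toGenerators).toAlgHom (X (Sum.inl i')) = _
    rw [Algebra.Generators.Hom.toAlgHom_X]
    rfl
  rw [this]

lemma L0map_beta_basis_inr (i : ι) :
    (beta P Q).L0map ((Q.comp P).cotangentSpaceBasis (Sum.inr i)) = 0 := by
  rw [basis_eq, L0map_tmul, map_one]
  have : (beta P Q).ringHom (X (Sum.inr i)) = MvPolynomial.C (P.val i) := by
    change (Q.toGenerators.ofComp P.toGenerators).toAlgHom (X (Sum.inr i)) = _
    rw [Algebra.Generators.Hom.toAlgHom_X]
    rfl
  rw [this]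
  have h2 : KaehlerDifferential.D B Q.toExtension.Ring (MvPolynomial.C (P.val i)) = 0 :=
    Derivation.map_algebraMap _ _
  rw [h2, TensorProduct.tmul_zero]

end L0

section L1

lemma L1map_alpha_basis (s : σ) :
    (alpha P Q).L1map (L1basis P s) = L1basis (Q.comp P) (Sum.inr s) := by
  rw [L1basis_apply, L1basis_apply, PresHom.L1map_tmul, map_one, alpha_relModMap_single, map_one]

lemma L1map_beta_basis_inl (s' : σ') :
    (beta P Q).L1map (L1basis (Q.comp P) (Sum.inl s')) = L1basis Q s' := by
  rw [L1basis_apply, L1basis_apply, PresHom.L1map_tmul, map_one, beta_relModMap_single_inl, map_one]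

lemma L1map_beta_basis_inr (s : σ) :
    (beta P Q).L1map (L1basis (Q.comp P) (Sum.inr s)) = 0 := by
  rw [L1basis_apply, PresHom.L1map_tmul, beta_relModMap_single_inr, TensorProduct.tmul_zero]

end L1

variable (M : Type m) [AddCommGroup M] [Module C M] [Module B M] [IsScalarTower B C M]

section deg0

lemma pull0_beta_injective (ψ : L0 Q →ₗ[C] M) (h : (beta P Q).pull0 M ψ = 0) : ψ = 0 := by
  apply Q.cotangentSpaceBasis.ext
  intro i'
  rw [← L0map_beta_basis_inl P Q, ← PresHom.pull0_apply, h]
  rfl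

lemma pull0_alpha_beta (ψ : L0 Q →ₗ[C] M) : (alpha P Q).pull0 M ((beta P Q).pull0 M ψ) = 0 := by
  apply P.cotangentSpaceBasis.ext
  intro i
  rw [PresHom.pull0_apply, PresHom.pull0_apply, L0map_alpha_basis, L0map_beta_basis_inr, map_zero]
  rfl

lemma pull0_exact (ψ : L0 (Q.comp P) →ₗ[C] M) (h : (alpha P Q).pull0 M ψ = 0) :
    ∃ ψ'' : L0 Q →ₗ[C] M, (beta P Q).pull0 M ψ'' = ψ := by
  refine ⟨Q.cotangentSpaceBasis.constr C (fun i' => ψ ((Q.comp P).cotangentSpaceBasis (Sum.inl i'))), ?_⟩
  apply (Q.comp P).cotangentSpaceBasis.ext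
  intro i
  cases i with
  | inl i' =>
    rw [PresHom.pull0_apply, L0map_beta_basis_inl, Module.Basis.constr_basis]
  | inr i =>
    rw [PresHom.pull0_apply, L0map_beta_basis_inr, map_zero, ← L0map_alpha_basis,
      ← PresHom.pull0_apply, h]
    rfl

/-- additive section of `pull0 α`. -/
noncomputable def sec0 : (L0 P →ₗ[B] M) →+ (L0 (Q.comp P) →ₗ[C] M) where
  toFun φ := (Q.comp P).cotangentSpaceBasis.constr C
    (Sum.elim (fun _ => 0) (fun i => φ (P.cotangentSpaceBasis i)))
  map_zero' := by
    apply (Q.comp P).cotangentSpaceBasis.ext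
    intro i
    rw [Module.Basis.constr_basis]
    cases i <;> simp
  map_add' φ φ' := by
    apply (Q.comp P).cotangentSpaceBasis.ext
    intro i
    rw [LinearMap.add_apply, Module.Basis.constr_basis, Module.Basis.constr_basis,
      Module.Basis.constr_basis]
    cases i <;> simp

lemma pull0_sec0 (φ : L0 P →ₗ[B] M) : (alpha P Q).pull0 M (sec0 P Q M φ) = φ := by
  apply P.cotangentSpaceBasis.ext
  intro i
  rw [PresHom.pull0_apply, L0map_alpha_basis]
  change (Q.comp P).cotangentSpaceBasis.constr C _ _ = _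
  rw [Module.Basis.constr_basis, Sum.elim_inr]

end deg0

section deg1

lemma pull1_beta_injective (ψ : L1 Q →ₗ[C] M) (h : (beta P Q).pull1 M ψ = 0) : ψ = 0 := by
  apply (L1basis Q).ext
  intro s'
  rw [← L1map_beta_basis_inl P Q, ← PresHom.pull1_apply, h]
  rfl

lemma pull1_alpha_beta (ψ : L1 Q →ₗ[C] M) : (alpha P Q).pull1 M ((beta P Q).pull1 M ψ) = 0 := by
  apply (L1basis P).ext
  intro s
  rw [PresHom.pull1_apply, PresHom.pull1_apply, L1map_alpha_basis, L1map_beta_basis_inr, map_zero]
  rfl

lemma pull1_exact (ψ : L1 (Q.comp P) →ₗ[C] M) (h : (alpha P Q).pull1 M ψ = 0) :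
    ∃ ψ'' : L1 Q →ₗ[C] M, (beta P Q).pull1 M ψ'' = ψ := by
  refine ⟨(L1basis Q).constr C (fun s' => ψ (L1basis (Q.comp P) (Sum.inl s'))), ?_⟩
  apply (L1basis (Q.comp P)).ext
  intro s
  cases s with
  | inl s' =>
    rw [PresHom.pull1_apply, L1map_beta_basis_inl, Module.Basis.constr_basis]
  | inr s =>
    rw [PresHom.pull1_apply, L1map_beta_basis_inr, map_zero, ← L1map_alpha_basis,
      ← PresHom.pull1_apply, h]
    rfl

/-- additive section of `pull1 α`. -/
noncomputable def sec1 : (L1 P →ₗ[B] M) →+ (L1 (Q.comp P) →ₗ[C] M) where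
  toFun φ := (L1basis (Q.comp P)).constr C
    (Sum.elim (fun _ => 0) (fun s => φ (L1basis P s)))
  map_zero' := by
    apply (L1basis (Q.comp P)).ext
    intro i
    rw [Module.Basis.constr_basis]
    cases i <;> simp
  map_add' φ φ' := by
    apply (L1basis (Q.comp P)).ext
    intro i
    rw [LinearMap.add_apply, Module.Basis.constr_basis, Module.Basis.constr_basis,
      Module.Basis.constr_basis]
    cases i <;> simp

lemma pull1_sec1 (φ : L1 P →ₗ[B] M) : (alpha P Q).pull1 M (sec1 P Q M φ) = φ := by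
  apply (L1basis P).ext
  intro s
  rw [PresHom.pull1_apply, L1map_alpha_basis]
  change (L1basis (Q.comp P)).constr C _ _ = _
  rw [Module.Basis.constr_basis, Sum.elim_inr]

end deg1

end Groth.Agent.H61.LS
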