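import Groth.Agent.H61.LS.L2Basic
import Groth.Agent.H61.CotTBasic

set_option linter.style.haveILetI false
set_option linter.unusedSectionVars false

/-! Injectivity of `d₂` versus triviality of the relations with coefficients in `I`; vanishing of `T²`
when `d₂` is injective and `I/I²` is projective. -/

open TensorProduct

namespace Groth.Agent.H61.LS

open CotT

universe u v w t m

variable {A : Type u} {B : Type v} {ι : Type w} {σ : Type t}
variable [CommRing A] [CommRing B] [Algebra A B]
variable (P : Algebra.Presentation A B ι σ)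

lemma d2_oneT (q : relKer P) : d2 P (oneT P q) = (1 : B) ⊗ₜ[P.toExtension.Ring] (q : relMod P) := by
  rw [oneT_apply, d2_mk_tmul]

lemma mem_smul_top_of_coeff_mem (q : relMod P) (hI : ∀ s, q s ∈ P.toExtension.ker) :
    q ∈ P.toExtension.ker • (⊤ : Submodule P.toExtension.Ring (relMod P)) := by
  rw [← Finsupp.sum_single q]
  refine Submodule.sum_mem _ fun s _ => ?_
  have : Finsupp.single s (q s) = q s • (Finsupp.single s 1 : relMod P) := by
    rw [Finsupp.smul_single, smul_eq_mul, mul_one]
  rw [this]
  exact Submodule.smul_mem_smul (hI s) Submodule.mem_top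

lemma coeff_mem_of_mem_smul_top (q : relMod P)
    (hq : q ∈ P.toExtension.ker • (⊤ : Submodule P.toExtension.Ring (relMod P))) (s : σ) :
    q s ∈ P.toExtension.ker := by
  refine Submodule.smul_induction_on hq ?_ ?_
  · intro r hr n _
    rw [Finsupp.smul_apply, smul_eq_mul]
    exact Ideal.mul_mem_right _ _ hr
  · intro x y hx hy
    rw [Finsupp.add_apply]
    exact Ideal.add_mem _ hx hy

/-- if `d₂` is injective, relations with coefficients in `I` are trivial. -/
lemma mem_trivRel_of_coeff_mem_ker (hinj : Function.Injective (d2 P)) (q : relMod P)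
    (hq : q ∈ relKer P) (hI : ∀ s, q s ∈ P.toExtension.ker) : q ∈ trivRel P := by
  have h1 : d2 P (oneT P ⟨q, hq⟩) = 0 := by
    rw [d2_oneT]
    exact Groth.Agent.H61.one_tmul_eq_zero_of_mem_smul_top P q (mem_smul_top_of_coeff_mem P q hI)
  have h2 : oneT P ⟨q, hq⟩ = 0 := hinj (by rw [h1, map_zero])
  exact (oneT_eq_zero_iff P ⟨q, hq⟩).1 h2

/-- conversely. -/
lemma d2_injective_of_forall (h : ∀ q ∈ relKer P, (∀ s, q s ∈ P.toExtension.ker) → q ∈ trivRel P) :
    Function.Injective (d2 P) := by
  rw [injective_iff_map_eq_zero]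
  intro x hx
  obtain ⟨q, rfl⟩ := oneT_surjective P x
  rw [d2_oneT] at hx
  have h1 := mem_smul_top_of_one_tmul_eq_zero P (N := relMod P) (q : relMod P) hx
  exact (oneT_eq_zero_iff P q).2 (h q q.2 (coeff_mem_of_mem_smul_top P q h1))

/-- if `T²(P, L₂)` vanishes, `d₂` is injective. -/
lemma d2_injective_of_subsingleton_T2 (h : Subsingleton (T2 P (L2 P))) : Function.Injective (d2 P) := by
  have h0 : (Submodule.Quotient.mk (LinearMap.id : L2 P →ₗ[B] L2 P) : T2 P (L2 P)) = 0 :=
    Subsingleton.elim _ _
  rw [Submodule.Quotient.mk_eq_zero] at h0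
  obtain ⟨ρ, hρ⟩ := h0
  rw [d2Star_apply] at hρ
  intro x y hxy
  have := congrArg ρ hxy
  rwa [← LinearMap.comp_apply, ← LinearMap.comp_apply, hρ] at this

/-- `T²` vanishes when `d₂` is injective and `I/I²` is projective. -/
theorem subsingleton_T2_of_injective_of_projective (hinj : Function.Injective (d2 P))
    [Module.Projective B P.toExtension.Cotangent] (M : Type m) [AddCommGroup M] [Module B M] :
    Subsingleton (T2 P M) := by
  obtain ⟨s, hs⟩ := Module.projective_lifting_property (toCot P) LinearMap.id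
    (Groth.Agent.H61.toCot_surjective P)
  -- the retraction of `d₂`
  let e := LinearEquiv.ofInjective (d2 P) hinj
  have hmem : ∀ x : L1 P, x - s (toCot P x) ∈ LinearMap.range (d2 P) := by
    intro x
    rw [← Groth.Agent.H61.ker_toCot_eq_range_d2, LinearMap.mem_ker, map_sub]
    have := LinearMap.congr_fun hs (toCot P x)
    rw [LinearMap.comp_apply, LinearMap.id_apply] at this
    rw [this, sub_self]
  let ρ : L1 P →ₗ[B] L2 P := e.symm.toLinearMap ∘ₗ
    LinearMap.codRestrict (LinearMap.range (d2 P)) (LinearMap.id - s ∘ₗ toCot P) hmem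
  have hρ : ρ ∘ₗ d2 P = LinearMap.id := by
    apply LinearMap.ext
    intro x
    rw [LinearMap.comp_apply, LinearMap.id_apply]
    change e.symm _ = x
    rw [LinearEquiv.symm_apply_eq]
    apply Subtype.ext
    change d2 P x - s (toCot P (d2 P x)) = d2 P x
    have : toCot P (d2 P x) = 0 := LinearMap.congr_fun (toCot_comp_d2 P) x
    rw [this, map_zero, sub_zero]
  have h : ∀ x : T2 P M, x = 0 := by
    intro x
    obtain ⟨φ, rfl⟩ := Submodule.Quotient.mk_surjective _ x
    rw [Submodule.Quotient.mk_eq_zero]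
    refine ⟨φ ∘ₗ ρ, ?_⟩
    rw [d2Star_apply, LinearMap.comp_assoc, hρ, LinearMap.comp_id]
  exact ⟨fun a b => by rw [h a, h b]⟩

end Groth.Agent.H61.LS
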