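import Mathlib

/-! `Ext¹` of the cokernel of an injection into a projective module. -/

open CategoryTheory Abelian

namespace Groth.Agent.H61.LS

universe u

variable {B : Type u} [CommRing B] {K L C N : Type u}
variable [AddCommGroup K] [Module B K] [AddCommGroup L] [Module B L]
variable [AddCommGroup C] [Module B C] [AddCommGroup N] [Module B N]

/-- For a short exact sequence `0 → K → L → C → 0` with `L` projective,
`Ext¹(C, N) = coker (Hom(L, N) → Hom(K, N))`. -/
theorem ext_one_equiv_of_shortExact (i : K →ₗ[B] L) (π : L →ₗ[B] C)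
    (hi : Function.Injective i) (hπ : Function.Surjective π) (hex : Function.Exact i π)
    [Module.Projective B L] :
    Nonempty (((K →ₗ[B] N) ⧸ LinearMap.range (LinearMap.lcomp B N i)) ≃ₗ[B]
      Ext (ModuleCat.of B C) (ModuleCat.of B N) 1) := by
  let S : ShortComplex (ModuleCat.{u} B) :=
    ShortComplex.mk (ModuleCat.ofHom i) (ModuleCat.ofHom π) (by
      ext x
      exact hex.apply_apply_eq_zero x)
  have hS : S.ShortExact := by
    haveI : Mono S.f := (ModuleCat.mono_iff_injective _).2 hi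
    haveI : Epi S.g := (ModuleCat.epi_iff_surjective _).2 hπ
    refine ⟨(ShortComplex.moduleCat_exact_iff S).2 fun x₂ hx₂ => ?_⟩
    exact (hex x₂).1 hx₂
  haveI : Projective S.X₂ := (IsProjective.iff_projective (R := B) (P := L)).1 inferInstance
  let Φ : (K →ₗ[B] N) →ₗ[B] Ext (ModuleCat.of B C) (ModuleCat.of B N) 1 :=
    { toFun := fun φ => hS.extClass.comp (Ext.mk₀ (ModuleCat.ofHom φ)) (add_zero 1)
      map_add' := fun φ ψ => by
        rw [ModuleCat.ofHom_add, Ext.mk₀_add, Ext.comp_add]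
      map_smul' := fun r φ => by
        have h1 : ModuleCat.ofHom (r • φ) = r • ModuleCat.ofHom φ := rfl
        rw [RingHom.id_apply, h1, Ext.mk₀_smul, Ext.comp_smul] }
  have hsurj : Function.Surjective Φ := by
    intro x
    have h0 : (Ext.mk₀ S.g).comp x (zero_add 1) = 0 := Ext.eq_zero_of_projective _
    obtain ⟨x₁, hx₁⟩ := Ext.contravariant_sequence_exact₃ hS _ x h0 (add_zero 1)
    obtain ⟨f, rfl⟩ := (Ext.mk₀_bijective _ _).2 x₁
    exact ⟨f.hom, hx₁⟩
  have hker : LinearMap.ker Φ = LinearMap.range (LinearMap.lcomp B N i) := by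
    ext φ
    constructor
    · intro h
      have h' : hS.extClass.comp (Ext.mk₀ (ModuleCat.ofHom φ)) (add_zero 1) = 0 := h
      obtain ⟨x₂, hx₂⟩ := Ext.contravariant_sequence_exact₁ hS _ (Ext.mk₀ (ModuleCat.ofHom φ))
        (add_zero 1) h'
      obtain ⟨g, rfl⟩ := (Ext.mk₀_bijective _ _).2 x₂
      rw [Ext.mk₀_comp_mk₀] at hx₂
      have h2 := (Ext.mk₀_bijective _ _).1 hx₂
      refine ⟨g.hom, ?_⟩
      have h3 := congrArg ModuleCat.Hom.hom h2
      exact h3
    · rintro ⟨ψ, rfl⟩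
      change hS.extClass.comp (Ext.mk₀ (ModuleCat.ofHom (ψ ∘ₗ i))) (add_zero 1) = 0
      have : ModuleCat.ofHom (ψ ∘ₗ i) = S.f ≫ ModuleCat.ofHom ψ := rfl
      rw [this, ← Ext.mk₀_comp_mk₀, ← Ext.comp_assoc_of_third_deg_zero, hS.extClass_comp,
        Ext.zero_comp]
  exact ⟨(Submodule.quotEquivOfEq _ _ hker.symm).trans (LinearMap.quotKerEquivOfSurjective Φ hsurj)⟩

variable {L2 : Type u} [AddCommGroup L2] [Module B L2]

/-- For an exact sequence `L₂ → L → C → 0` with `L` projective such that every map `L₂ → N` kills `ker d`,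
`Ext¹(C, N) = coker (Hom(L, N) → Hom(L₂, N))`. -/
theorem ext_one_equiv_of_presentation (d : L2 →ₗ[B] L) (π : L →ₗ[B] C)
    (hπ : Function.Surjective π) (hex : LinearMap.ker π = LinearMap.range d)
    [Module.Projective B L]
    (hN : ∀ (φ : L2 →ₗ[B] N) (x : L2), d x = 0 → φ x = 0) :
    Nonempty (((L2 →ₗ[B] N) ⧸ LinearMap.range (LinearMap.lcomp B N d)) ≃ₗ[B]
      Ext (ModuleCat.of B C) (ModuleCat.of B N) 1) := by
  let K := LinearMap.range d
  let i : K →ₗ[B] L := K.subtype
  let d' : L2 →ₗ[B] K := d.rangeRestrict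
  have hd' : Function.Surjective d' := LinearMap.surjective_rangeRestrict d
  have hexact : Function.Exact i π := by
    intro y
    rw [← LinearMap.mem_ker, hex]
    constructor
    · intro hy
      exact ⟨⟨y, hy⟩, rfl⟩
    · rintro ⟨⟨z, hz⟩, rfl⟩
      exact hz
  obtain ⟨e₁⟩ := ext_one_equiv_of_shortExact (N := N) i π (Submodule.injective_subtype K) hπ hexact
  -- `Hom(K, N) ≃ Hom(L₂, N)`
  let Θ₀ : (K →ₗ[B] N) →ₗ[B] (L2 →ₗ[B] N) := LinearMap.lcomp B N d'
  have hΘinj : Function.Injective Θ₀ := by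
    intro ψ ψ' h
    ext y
    obtain ⟨x, rfl⟩ := hd' y
    exact LinearMap.congr_fun h x
  have hΘsurj : Function.Surjective Θ₀ := by
    intro φ
    have hle : LinearMap.ker d' ≤ LinearMap.ker φ := by
      intro x hx
      rw [LinearMap.mem_ker] at hx ⊢
      apply hN φ x
      have := congrArg Subtype.val hx
      exact this
    refine ⟨(Submodule.liftQ _ φ hle) ∘ₗ (LinearMap.quotKerEquivOfSurjective d' hd').symm.toLinearMap, ?_⟩
    ext x
    change (Submodule.liftQ _ φ hle) ((LinearMap.quotKerEquivOfSurjective d' hd').symm (d' x)) = φ x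
    have : (LinearMap.quotKerEquivOfSurjective d' hd').symm (d' x) = Submodule.Quotient.mk x := by
      rw [LinearEquiv.symm_apply_eq]
      rfl
    rw [this, Submodule.liftQ_apply]
  let Θ : (K →ₗ[B] N) ≃ₗ[B] (L2 →ₗ[B] N) := LinearEquiv.ofBijective Θ₀ ⟨hΘinj, hΘsurj⟩
  have hmap : (LinearMap.range (LinearMap.lcomp B N i)).map (Θ : (K →ₗ[B] N) →ₗ[B] (L2 →ₗ[B] N)) =
      LinearMap.range (LinearMap.lcomp B N d) := by
    ext φ
    constructor
    · rintro ⟨_, ⟨ψ, rfl⟩, rfl⟩
      exact ⟨ψ, rfl⟩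
    · rintro ⟨ψ, rfl⟩
      exact ⟨_, ⟨ψ, rfl⟩, rfl⟩
  exact ⟨(Submodule.Quotient.equiv _ _ Θ hmap).symm.trans e₁⟩

end Groth.Agent.H61.LS
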