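import Groth.Agent.H61.LS.Homotopy2

set_option linter.style.haveILetI false
set_option linter.unusedSectionVars false

/-! Coefficientwise map of finitely supported functions along a localization-like ring hom. -/

namespace Groth.Agent.H61.LS

universe u v t

variable {R : Type u} {R'' : Type v} [CommRing R] [CommRing R''] (ψ : R →+* R'') {σ : Type t}

/-- coefficientwise `ψ`. -/
noncomputable def coeffMap : (σ →₀ R) →ₛₗ[ψ] (σ →₀ R'') :=
  semiLC ψ (fun s => (Finsupp.single s 1 : σ →₀ R''))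

lemma coeffMap_single (s : σ) (r : R) :
    coeffMap ψ (Finsupp.single s r) = Finsupp.single s (ψ r) := by
  rw [coeffMap, semiLC_single, Finsupp.smul_single, smul_eq_mul, mul_one]

lemma coeffMap_apply (x : σ →₀ R) (s : σ) : coeffMap ψ x s = ψ (x s) := by
  classical
  induction x using Finsupp.induction_linear with
  | zero => simp
  | add f g hf hg => rw [map_add, Finsupp.add_apply, hf, hg, Finsupp.add_apply, map_add]
  | single s' r =>
    rw [coeffMap_single, Finsupp.single_apply, Finsupp.single_apply]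
    split_ifs
    · rfl
    · rw [map_zero]

variable (S : Submonoid R)

/-- every element is a fraction. -/
lemma exists_coeffMap_eq (h1 : ∀ r'' : R'', ∃ r : R, ∃ w ∈ S, ψ w * r'' = ψ r) (a' : σ →₀ R'') :
    ∃ a : σ →₀ R, ∃ w ∈ S, coeffMap ψ a = ψ w • a' := by
  induction a' using Finsupp.induction_linear with
  | zero => exact ⟨0, 1, S.one_mem, by rw [map_zero, smul_zero]⟩
  | add f g hf hg =>
    obtain ⟨a₁, w₁, hw₁, h₁⟩ := hf
    obtain ⟨a₂, w₂, hw₂, h₂⟩ := hg
    refine ⟨w₂ • a₁ + w₁ • a₂, w₁ * w₂, S.mul_mem hw₁ hw₂, ?_⟩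
    rw [map_add, LinearMap.map_smulₛₗ, LinearMap.map_smulₛₗ, h₁, h₂, smul_smul, smul_smul, map_mul,
      smul_add, mul_comm (ψ w₂)]
  | single s r'' =>
    obtain ⟨r, w, hw, h⟩ := h1 r''
    exact ⟨Finsupp.single s r, w, hw, by
      rw [coeffMap_single, Finsupp.smul_single, smul_eq_mul, h]⟩

/-- elements mapping to zero are killed by an element of `S`. -/
lemma exists_smul_eq_zero (h2 : ∀ x : R, ψ x = 0 → ∃ v ∈ S, v * x = 0) (x : σ →₀ R)
    (hx : coeffMap ψ x = 0) : ∃ v ∈ S, v • x = 0 := by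
  classical
  have h : ∀ s : σ, ∃ v ∈ S, v * x s = 0 := by
    intro s
    apply h2
    rw [← coeffMap_apply, hx]
    rfl
  choose v hv hvx using h
  refine ⟨∏ s ∈ x.support, v s, S.prod_mem fun s _ => hv s, ?_⟩
  ext s
  rw [Finsupp.smul_apply, smul_eq_mul, Finsupp.zero_apply]
  by_cases hs : s ∈ x.support
  · rw [← Finset.mul_prod_erase _ _ hs, mul_comm (v s), mul_assoc, hvx, mul_zero]
  · rw [Finsupp.notMem_support_iff.1 hs, mul_zero]

end Groth.Agent.H61.LS
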