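import Groth.Agent.H61.LS.RegInput
import Groth.Agent.H61.LS.D2Inj

set_option linter.style.haveILetI false
set_option linter.unusedSectionVars false

/-! For a reduced algebra of finite type over a field, `d₂ : L₂ → L₁` is injective at the generic points;
hence every linear map `L₂ → B` kills `ker d₂`. -/

open TensorProduct

namespace Groth.Agent.H61.LS

open CotT MvPolynomial RingTheory.Sequence

universe u v w t m

variable {k : Type u} [Field k] {B : Type v} [CommRing B] [Algebra k B] {ι : Type w} [Finite ι]
  {σ : Type t} (P : Algebra.Presentation k B ι σ)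

/-- prime version of `exists_regular_of_regular_localizations`. -/
theorem exists_regular_of_regular_at
    (n : Ideal P.toExtension.Ring) [n.IsPrime] (hle : P.toExtension.ker ≤ n)
    (hreg : ∀ [(n.map (algebraMap P.toExtension.Ring B)).IsPrime],
      IsRegularLocalRing (Localization.AtPrime (n.map (algebraMap P.toExtension.Ring B)))) :
    ∃ rs : List (Localization.AtPrime n), IsWeaklyRegular (Localization.AtPrime n) rs ∧
      Ideal.ofList rs = P.toExtension.ker.map (algebraMap P.toExtension.Ring (Localization.AtPrime n)) := by
  have hπ : Function.Surjective (algebraMap P.toExtension.Ring B) := P.toExtension.algebraMap_surjective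
  haveI hp : (n.map (algebraMap P.toExtension.Ring B)).IsPrime :=
    map_isPrime_of_ker_le _ hπ n hle
  haveI := hreg
  haveI : IsRegularLocalRing (Localization.AtPrime n ⧸
      P.toExtension.ker.map (algebraMap P.toExtension.Ring (Localization.AtPrime n))) :=
    IsRegularLocalRing.of_ringEquiv (quotLocEquiv (algebraMap P.toExtension.Ring B) hπ n hle).symm
  obtain ⟨rs, hrs, hJ⟩ := (Groth.Agent.H26.isRegularLocalRing_iff_exists_regular
    (Localization.AtPrime n)
    (P.toExtension.ker.map (algebraMap P.toExtension.Ring (Localization.AtPrime n)))).1 inferInstance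
  exact ⟨rs, hrs.toIsWeaklyRegular, hJ⟩

/-- the localization of a reduced ring at a minimal prime is a regular local ring (a field). -/
theorem isRegularLocalRing_of_minimal [IsReduced B] (p : Ideal B) [p.IsPrime] (hp : p ∈ minimalPrimes B) :
    IsRegularLocalRing (Localization.AtPrime p) := by
  haveI : Ring.KrullDimLE 0 (Localization.AtPrime p) :=
    Ring.KrullDimLE.of_isLocalization p hp (Localization.AtPrime p)
  haveI : IsReduced (Localization.AtPrime p) := inferInstance
  have hf : IsField (Localization.AtPrime p) := Ring.KrullDimLE.isField_of_isReduced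
  letI := hf.toField
  infer_instance

/-- every linear map `L₂ → B` kills `ker d₂` when `B` is reduced. -/
theorem apply_eq_zero_of_d2_eq_zero [IsReduced B] (φ : L2 P →ₗ[B] B) (x : L2 P) (hx : d2 P x = 0) :
    φ x = 0 := by
  obtain ⟨q, rfl⟩ := oneT_surjective P x
  rw [d2_oneT] at hx
  have h1 := mem_smul_top_of_one_tmul_eq_zero P (N := relMod P) (q : relMod P) hx
  have hI := coeff_mem_of_mem_smul_top P q h1
  have hπ : Function.Surjective (algebraMap P.toExtension.Ring B) := P.toExtension.algebraMap_surjective
  -- `φ x` lies in every minimal prime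
  have hmem : ∀ p ∈ minimalPrimes B, φ (oneT P q) ∈ p := by
    intro p hp
    haveI : p.IsPrime := hp.1.1
    let n : Ideal P.toExtension.Ring := p.comap (algebraMap P.toExtension.Ring B)
    haveI : n.IsPrime := Ideal.comap_isPrime _ _
    have hle : P.toExtension.ker ≤ n := by
      intro r hr
      change algebraMap P.toExtension.Ring B r ∈ p
      rw [show algebraMap P.toExtension.Ring B r = 0 from hr]
      exact zero_mem _
    have hmap : n.map (algebraMap P.toExtension.Ring B) = p := Ideal.map_comap_of_surjective _ hπ p
    obtain ⟨rs, hreg, hJ⟩ := exists_regular_of_regular_at P n hle (by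
      intro _
      have := isRegularLocalRing_of_minimal p hp
      convert this)
    obtain ⟨u, hu, huq⟩ := exists_smul_mem_trivRel_of_regular P n rs hreg hJ q q.2 hI
    have h2 : oneT P (u • q) = 0 := (oneT_eq_zero_iff P (u • q)).2 huq
    rw [oneT_smul] at h2
    have h3 : algebraMap P.toExtension.Ring B u * φ (oneT P q) = 0 := by
      rw [← smul_eq_mul, ← map_smul, h2, map_zero]
    have hu' : algebraMap P.toExtension.Ring B u ∉ p := hu
    exact (Ideal.IsPrime.mem_or_mem inferInstance (by rw [h3]; exact zero_mem p)).resolve_left hu'
  have hnil : φ (oneT P q) ∈ nilradical B := by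
    rw [nilradical, ← Ideal.sInf_minimalPrimes]
    exact Submodule.mem_sInf.2 hmem
  rw [nilradical_eq_zero] at hnil
  exact hnil

end Groth.Agent.H61.LS
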