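import Groth.Agent.H61.CotTBasic

set_option linter.style.haveILetI false
set_option linter.unusedSectionVars false

/-! Homotopy invariance of `T⁰` and `T¹` pull-backs (Lichtenbaum–Schlessinger). -/

open TensorProduct

namespace Groth.Agent.H61.LS

open CotT

universe u v w t u' v' w' t' m

variable {A : Type u} {B : Type v} {ι : Type w} {σ : Type t}
variable {A' : Type u'} {B' : Type v'} {ι' : Type w'} {σ' : Type t'}
variable [CommRing A] [CommRing B] [Algebra A B] [CommRing A'] [CommRing B'] [Algebra A' B']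
variable [Algebra A A'] [Algebra B B'] [Algebra A B'] [IsScalarTower A A' B'] [IsScalarTower A B B']
variable {P : Algebra.Presentation A B ι σ} {P' : Algebra.Presentation A' B' ι' σ'}

section single

variable (P)

lemma comp_cotangentComplex_eq_zero {M : Type m} [AddCommGroup M] [Module B M]
    (ψ : L0 P →ₗ[B] M) (hψ : ψ ∈ LinearMap.ker (d1Star P M)) :
    ψ ∘ₗ P.toExtension.cotangentComplex = 0 := by
  rw [LinearMap.mem_ker, d1Star_apply, d1, ← LinearMap.comp_assoc] at hψ
  ext y
  obtain ⟨x, rfl⟩ := toCot_surjective P y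
  exact LinearMap.congr_fun hψ x

lemma exists_cot_factor {M : Type m} [AddCommGroup M] [Module B M]
    (c : L1 P →ₗ[B] M) (hc : c ∘ₗ d2 P = 0) :
    ∃ cbar : P.toExtension.Cotangent →ₗ[B] M, cbar ∘ₗ toCot P = c := by
  have hsurj := toCot_surjective P
  have hker : LinearMap.ker (toCot P) ≤ LinearMap.ker c := by
    rw [ker_toCot_eq_range_d2, LinearMap.range_le_ker_iff]
    exact hc
  refine ⟨((LinearMap.ker (toCot P)).liftQ c hker) ∘ₗ
      ((toCot P).quotKerEquivOfSurjective hsurj).symm.toLinearMap, ?_⟩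
  ext x
  simp only [LinearMap.coe_comp, LinearEquiv.coe_coe, Function.comp_apply]
  have : ((toCot P).quotKerEquivOfSurjective hsurj).symm (toCot P x) =
      Submodule.Quotient.mk x := by
    rw [LinearEquiv.symm_apply_eq]
    rfl
  rw [this, Submodule.liftQ_apply]

end single

variable (M' : Type m) [AddCommGroup M'] [Module B' M'] [Module B M'] [IsScalarTower B B' M']

theorem T0pull_eq (h h' : PresHom P P') : h.T0pull M' = h'.T0pull M' := by
  ext ψ : 1
  apply Subtype.ext
  apply LinearMap.ext
  intro x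
  change (ψ : L0 P' →ₗ[B'] M') (h.L0map x) = (ψ : L0 P' →ₗ[B'] M') (h'.L0map x)
  rw [PresHom.L0map_apply, PresHom.L0map_apply, ← sub_eq_zero, ← map_sub, ← LinearMap.sub_apply,
    Algebra.Extension.CotangentSpace.map_sub_map]
  have := comp_cotangentComplex_eq_zero P' (ψ : L0 P' →ₗ[B'] M') ψ.2
  exact LinearMap.congr_fun this _

section
attribute [local instance] SMulCommClass.of_commMonoid

lemma T1pull_mk (h : PresHom P P') (c : cocycles1 P' M') :
    h.T1pull M' (Submodule.Quotient.mk c) = Submodule.Quotient.mk (h.cocycles1Pull M' c) := rfl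

theorem T1pull_eq (h h' : PresHom P P') : h.T1pull M' = h'.T1pull M' := by
  apply LinearMap.ext
  intro x
  obtain ⟨c, rfl⟩ := Submodule.Quotient.mk_surjective _ x
  rw [T1pull_mk, T1pull_mk, Submodule.Quotient.eq]
  obtain ⟨cbar, hcbar⟩ := exists_cot_factor P' (c : L1 P' →ₗ[B'] M') c.2
  -- the homotopy
  let χ : L0 P →ₗ[B] M' :=
    { toFun := fun x => cbar (Algebra.Extension.Hom.sub h.hom.toExtensionHom h'.hom.toExtensionHom x)
      map_add' := fun x y => by rw [map_add, map_add]
      map_smul' := fun b x => by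
        rw [LinearMap.map_smul, RingHom.id_apply, ← IsScalarTower.algebraMap_smul B' b
          (Algebra.Extension.Hom.sub h.hom.toExtensionHom h'.hom.toExtensionHom x),
          LinearMap.map_smul, IsScalarTower.algebraMap_smul] }
  refine ⟨χ, ?_⟩
  apply LinearMap.ext
  intro x
  change χ (d1 P x) = (c : L1 P' →ₗ[B'] M') (h.L1map x) - (c : L1 P' →ₗ[B'] M') (h'.L1map x)
  rw [← hcbar, LinearMap.comp_apply, LinearMap.comp_apply, PresHom.toCot_L1map, PresHom.toCot_L1map,
    PresHom.cotMap_apply, PresHom.cotMap_apply, ← map_sub, ← LinearMap.sub_apply,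
    Algebra.Extension.Cotangent.map_sub_map]
  rfl

end

end Groth.Agent.H61.LS
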