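import Groth.Agent.H61.LS.BiDer
import Groth.Agent.H61.LS.Homotopy01

set_option linter.style.haveILetI false
set_option linter.unusedSectionVars false

/-! Homotopy invariance of `T²` pull-backs (Lichtenbaum–Schlessinger). -/

open TensorProduct

namespace Groth.Agent.H61.LS

open CotT

universe u v w t u' v' w' t' m

variable {A : Type u} {B : Type v} {ι : Type w} {σ : Type t}
variable {A' : Type u'} {B' : Type v'} {ι' : Type w'} {σ' : Type t'}
variable [CommRing A] [CommRing B] [Algebra A B] [CommRing A'] [CommRing B'] [Algebra A' B']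
variable [Algebra A A'] [Algebra B B'] [Algebra A B'] [IsScalarTower A A' B'] [IsScalarTower A B B']
variable {P : Algebra.Presentation A B ι σ} {P' : Algebra.Presentation A' B' ι' σ'}

section single

variable (P)

/-- `N = F / F₀`. -/
abbrev NMod : Type _ := relMod P ⧸ trivRel P

/-- `j̄ : F/F₀ → R`. -/
noncomputable def jbar : NMod P →ₗ[P.toExtension.Ring] P.toExtension.Ring :=
  (trivRel P).liftQ (jmap P) (trivRel_le_relKer P)

@[simp] lemma jbar_mk (f : relMod P) : jbar P (Submodule.Quotient.mk f) = jmap P f := rfl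

lemma jbar_smul_comm (a b : NMod P) : jbar P a • b = jbar P b • a := by
  obtain ⟨f, rfl⟩ := Submodule.Quotient.mk_surjective _ a
  obtain ⟨g, rfl⟩ := Submodule.Quotient.mk_surjective _ b
  rw [jbar_mk, jbar_mk, ← Submodule.Quotient.mk_smul, ← Submodule.Quotient.mk_smul,
    Submodule.Quotient.eq]
  exact Submodule.subset_span ⟨f, g, rfl⟩

/-- an element of `Q` which is a trivial relation dies in `L₂`. -/
lemma mk_one_tmul_eq_zero (q : relKer P) (hq : (q : relMod P) ∈ trivRel P) :
    (Submodule.Quotient.mk ((1 : B) ⊗ₜ[P.toExtension.Ring] q) : L2 P) = 0 := by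
  rw [Submodule.Quotient.mk_eq_zero]
  exact ⟨(1 : B) ⊗ₜ ⟨q, hq⟩, rfl⟩

end single

/-- semilinear extension of a family `σ → N` along a ring hom. -/
noncomputable def semiLC {R R' : Type*} [CommRing R] [CommRing R'] (φ : R →+* R') {σ : Type*}
    {N : Type*} [AddCommGroup N] [Module R' N] (u : σ → N) : (σ →₀ R) →ₛₗ[φ] N where
  toFun f := Finsupp.linearCombination R' u (Finsupp.mapRange φ (map_zero _) f)
  map_add' f g := by rw [Finsupp.mapRange_add (map_add _), map_add]
  map_smul' r f := by
    rw [← map_smul]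
    congr 1
    ext s
    simp [Finsupp.mapRange_apply, map_mul]

@[simp] lemma semiLC_single {R R' : Type*} [CommRing R] [CommRing R'] (φ : R →+* R') {σ : Type*}
    {N : Type*} [AddCommGroup N] [Module R' N] (u : σ → N) (s : σ) (r : R) :
    semiLC φ u (Finsupp.single s r) = φ r • u s := by
  simp [semiLC]

/-- The key identity in `N' = F'/F₀'`. -/
lemma exists_homotopy_data (h h' : PresHom P P') :
    ∃ u : σ → relKer P', ∀ q : relKer P,
      (h.relKerMap q : relMod P') - (h'.relKerMap q : relMod P') -
        ((semiLC h'.ringHom u (q : relMod P) : relKer P') : relMod P') ∈ trivRel P' := by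
  classical
  -- the biderivation
  have hker : ∀ i : ι, h.ringHom (MvPolynomial.X i) - h'.ringHom (MvPolynomial.X i) ∈
      LinearMap.range (jmap P') := by
    intro i
    rw [range_jmap]
    change algebraMap P'.toExtension.Ring B' _ = 0
    rw [map_sub, h.algebraMap_ringHom, h'.algebraMap_ringHom, sub_self]
  choose w₀ hw₀ using hker
  have hC : ∀ a : A, h.ringHom (MvPolynomial.C a) = h'.ringHom (MvPolynomial.C a) := by
    intro a
    change h.hom.toAlgHom (MvPolynomial.C a) = h'.hom.toAlgHom (MvPolynomial.C a)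
    rw [Algebra.Generators.Hom.toAlgHom_C, Algebra.Generators.Hom.toAlgHom_C]
  obtain ⟨Δ₀, hΔj₀, hΔmul₀, -, -⟩ := exists_biDer (jbar P') (jbar_smul_comm P') h.ringHom h'.ringHom hC
    (fun i => Submodule.Quotient.mk (w₀ i)) (fun i => by rw [jbar_mk]; exact hw₀ i)
  obtain ⟨Δ, hΔj, hΔmul⟩ : ∃ Δ : P.toExtension.Ring →+ NMod P',
      (∀ r : P.toExtension.Ring, jbar P' (Δ r) = h.ringHom r - h'.ringHom r) ∧
      (∀ a b : P.toExtension.Ring, Δ (a * b) = h'.ringHom a • Δ b + h.ringHom b • Δ a) :=
    ⟨Δ₀, hΔj₀, hΔmul₀⟩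
  clear hΔj₀ hΔmul₀ Δ₀
  -- lifts of `Δ (rel s)`
  have hlift : ∀ s : σ, ∃ d : relMod P', Submodule.Quotient.mk d = Δ (rel P s) :=
    fun s => Submodule.Quotient.mk_surjective _ _
  choose d hd using hlift
  have hu : ∀ s : σ, h.relVal s - h'.relVal s - d s ∈ relKer P' := by
    intro s
    change jmap P' _ = 0
    rw [map_sub, map_sub, h.jmap_relVal, h'.jmap_relVal, ← jbar_mk, hd, hΔj]
    exact sub_self _
  refine ⟨fun s => ⟨_, hu s⟩, ?_⟩
  -- the identity on all of `F`
  have key : ∀ f : relMod P,
      (Submodule.Quotient.mk (h.relModMap f) : NMod P') - Submodule.Quotient.mk (h'.relModMap f) =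
        Submodule.Quotient.mk ((semiLC h'.ringHom (fun s => (⟨_, hu s⟩ : relKer P')) f : relKer P') :
          relMod P') + Δ (jmap P f) := by
    intro f
    induction f using Finsupp.induction_linear with
    | zero =>
      simp only [map_zero, Submodule.Quotient.mk_zero, sub_self, Submodule.coe_zero, add_zero]
    | add f g hf hg =>
      rw [map_add, map_add, map_add, map_add, Submodule.Quotient.mk_add, Submodule.Quotient.mk_add,
        Submodule.coe_add, Submodule.Quotient.mk_add]
      have e : ∀ a b c d : NMod P', a + b - (c + d) = (a - c) + (b - d) := fun a b c d => by abel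
      rw [e, hf, hg, map_add Δ]
      abel
    | single s c =>
      rw [PresHom.relModMap_single, PresHom.relModMap_single, semiLC_single, jmap_single, hΔmul,
        Submodule.coe_smul, Submodule.Quotient.mk_smul, Submodule.Quotient.mk_smul,
        Submodule.Quotient.mk_smul]
      change _ = h'.ringHom c • Submodule.Quotient.mk (h.relVal s - h'.relVal s - d s) + _
      rw [Submodule.Quotient.mk_sub, Submodule.Quotient.mk_sub, hd]
      have e1 : h.ringHom c = h'.ringHom c + jbar P' (Δ c) := by rw [hΔj]; ring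
      have e2 : h.ringHom (rel P s) = jbar P' (Submodule.Quotient.mk (h.relVal s)) := by
        rw [jbar_mk, h.jmap_relVal]
      rw [e1, add_smul, jbar_smul_comm, ← e2, smul_sub, smul_sub]
      abel
  intro q
  rw [← Submodule.Quotient.mk_eq_zero, Submodule.Quotient.mk_sub, Submodule.Quotient.mk_sub,
    PresHom.relKerMap_coe, PresHom.relKerMap_coe, key]
  have hq : jmap P (q : relMod P) = 0 := q.2
  rw [hq, map_zero, add_zero, sub_self]

variable (M' : Type m) [AddCommGroup M'] [Module B' M'] [Module B M'] [IsScalarTower B B' M']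

lemma T2pull_mk (h : PresHom P P') (ψ : L2 P' →ₗ[B'] M') :
    h.T2pull M' (Submodule.Quotient.mk ψ) = Submodule.Quotient.mk (h.pull2 M' ψ) := rfl

theorem T2pull_eq (h h' : PresHom P P') : h.T2pull M' = h'.T2pull M' := by
  classical
  apply LinearMap.ext
  intro x
  obtain ⟨ψ, rfl⟩ := Submodule.Quotient.mk_surjective _ x
  rw [T2pull_mk, T2pull_mk, Submodule.Quotient.eq]
  obtain ⟨u, hu⟩ := exists_homotopy_data h h'
  let χ : L1 P →ₗ[B] M' := (L1basis P).constr B
    (fun s => ψ (Submodule.Quotient.mk ((1 : B') ⊗ₜ[P'.toExtension.Ring] u s)))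
  -- values of `χ`
  have hχ : ∀ (b : B) (f : relMod P), χ (b ⊗ₜ f) =
      b • ψ (Submodule.Quotient.mk ((1 : B') ⊗ₜ[P'.toExtension.Ring] (semiLC h'.ringHom u f))) := by
    intro b f
    induction f using Finsupp.induction_linear with
    | zero => simp
    | add f g hf hg =>
      rw [TensorProduct.tmul_add, map_add, hf, hg, map_add, TensorProduct.tmul_add,
        Submodule.Quotient.mk_add, map_add, smul_add]
    | single s c =>
      have e1 : b ⊗ₜ[P.toExtension.Ring] (Finsupp.single s c : relMod P) =
          (algebraMap P.toExtension.Ring B c * b) • L1basis P s := by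
        rw [L1basis_apply, TensorProduct.smul_tmul', smul_eq_mul, mul_one, ← Algebra.smul_def,
          TensorProduct.smul_tmul, Finsupp.smul_single, smul_eq_mul, mul_one]
      rw [e1, map_smul, Module.Basis.constr_basis, semiLC_single]
      have e2 : (1 : B') ⊗ₜ[P'.toExtension.Ring] (h'.ringHom c • u s) =
          algebraMap B B' (algebraMap P.toExtension.Ring B c) • ((1 : B') ⊗ₜ[P'.toExtension.Ring] u s) := by
        rw [← TensorProduct.smul_tmul, TensorProduct.smul_tmul', Algebra.smul_def, smul_eq_mul,
          h'.algebraMap_ringHom]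
      rw [e2, Submodule.Quotient.mk_smul, map_smul, IsScalarTower.algebraMap_smul, mul_comm,
        mul_smul]
  refine ⟨χ, ?_⟩
  apply LinearMap.ext
  intro z
  obtain ⟨z, rfl⟩ := Submodule.Quotient.mk_surjective _ z
  change χ (d2 P (Submodule.Quotient.mk z)) = ψ (h.L2map (Submodule.Quotient.mk z)) -
    ψ (h'.L2map (Submodule.Quotient.mk z))
  induction z using TensorProduct.induction_on with
  | zero => simp
  | add x y hx hy =>
    rw [Submodule.Quotient.mk_add, map_add, map_add, map_add, map_add, map_add, map_add, hx, hy]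
    abel
  | tmul b q =>
    rw [d2_mk_tmul, hχ, PresHom.L2map_mk_tmul, PresHom.L2map_mk_tmul, ← map_sub,
      ← Submodule.Quotient.mk_sub]
    have e5 : algebraMap B B' b ⊗ₜ[P'.toExtension.Ring] h.relKerMap q -
        algebraMap B B' b ⊗ₜ[P'.toExtension.Ring] h'.relKerMap q =
        algebraMap B B' b ⊗ₜ[P'.toExtension.Ring] (h.relKerMap q - h'.relKerMap q) :=
      (map_sub (TensorProduct.mk P'.toExtension.Ring B' (relKer P') (algebraMap B B' b)) _ _).symm
    rw [e5]
    have e3 : h.relKerMap q - h'.relKerMap q = semiLC h'.ringHom u (q : relMod P) +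
        (h.relKerMap q - h'.relKerMap q - semiLC h'.ringHom u (q : relMod P)) := by abel
    have e4 : ∀ y : relKer P', algebraMap B B' b ⊗ₜ[P'.toExtension.Ring] y =
        algebraMap B B' b • ((1 : B') ⊗ₜ[P'.toExtension.Ring] y) := by
      intro y
      rw [TensorProduct.smul_tmul', smul_eq_mul, mul_one]
    have e6 : (Submodule.Quotient.mk ((1 : B') ⊗ₜ[P'.toExtension.Ring]
        (h.relKerMap q - h'.relKerMap q - semiLC h'.ringHom u (q : relMod P))) : L2 P') = 0 :=
      mk_one_tmul_eq_zero P' _ (hu q)
    rw [e3, TensorProduct.tmul_add, Submodule.Quotient.mk_add, map_add, e4, e4,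
      Submodule.Quotient.mk_smul, Submodule.Quotient.mk_smul, e6, smul_zero, map_zero, add_zero,
      map_smul, IsScalarTower.algebraMap_smul]

end Groth.Agent.H61.LS
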