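import Groth.Agent.H61.LS.LocPres
import Groth.Agent.H61.LS.RegSeq

set_option linter.style.haveILetI false
set_option linter.unusedSectionVars false

/-! All relations of the presentation of a localization are trivial; `T²` of a localization vanishes. -/

namespace Groth.Agent.H61.LS

open MvPolynomial

universe u v m

section Poly

lemma mem_map_C_of_mul_mem {A : Type*} [CommRing A] (J : Ideal A) (c : A) (b : Polynomial A)
    (h : b * (Polynomial.C c * Polynomial.X - 1) ∈ Ideal.map (Polynomial.C : A →+* Polynomial A) J) :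
    b ∈ Ideal.map (Polynomial.C : A →+* Polynomial A) J := by
  rw [Ideal.mem_map_C_iff] at h ⊢
  have hb : b * (Polynomial.C c * Polynomial.X - 1) = b * Polynomial.C c * Polynomial.X - b := by ring
  rw [hb] at h
  intro n
  induction n with
  | zero =>
    have := h 0
    rw [Polynomial.coeff_sub, Polynomial.coeff_mul_X_zero, zero_sub] at this
    exact (Submodule.neg_mem_iff _).1 this
  | succ n ih =>
    have := h (n + 1)
    rw [Polynomial.coeff_sub, Polynomial.coeff_mul_X, Polynomial.coeff_mul_C] at this
    have h2 : b.coeff (n + 1) = b.coeff n * c - (b.coeff n * c - b.coeff (n + 1)) := by ring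
    rw [h2]
    exact Submodule.sub_mem _ (Ideal.mul_mem_right _ _ ih) this

end Poly

section NZD

variable {R : Type u} [CommRing R] (M : Submonoid R)

lemma locRel_nzd (T' : Finset M) (s₀ : M) (hs₀ : s₀ ∉ T') (a : MvPolynomial M R)
    (h : a * locRel M s₀ ∈ Ideal.span (locRel M '' (T' : Set M))) :
    a ∈ Ideal.span (locRel M '' (T' : Set M)) := by
  classical
  let e : M ≃ Option {s // s ≠ s₀} := (Equiv.optionSubtypeNe s₀).symm
  let Φ : MvPolynomial M R ≃ₐ[R] Polynomial (MvPolynomial {s // s ≠ s₀} R) :=
    (renameEquiv R e).trans (optionEquivLeft R {s // s ≠ s₀})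
  have hΦC : ∀ r : R, Φ (C r) = Polynomial.C (C r) := by
    intro r
    change optionEquivLeft R _ (rename e (C r)) = _
    rw [rename_C, optionEquivLeft_C]
  have hΦ0 : Φ (locRel M s₀) = Polynomial.C (C (s₀ : R)) * Polynomial.X - 1 := by
    rw [locRel, map_sub, map_mul, map_one, hΦC]
    congr 2
    change optionEquivLeft R _ (rename e (X s₀)) = _
    rw [rename_X, show e s₀ = none from Equiv.optionSubtypeNe_symm_self s₀, optionEquivLeft_X_none]
  let r₁ : {s // s ≠ s₀} → MvPolynomial {s // s ≠ s₀} R := fun x => C ((x.1 : M) : R) * X x - 1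
  have hΦs : ∀ (s : M) (hs : s ≠ s₀), Φ (locRel M s) = Polynomial.C (r₁ ⟨s, hs⟩) := by
    intro s hs
    rw [locRel, map_sub, map_mul, map_one, hΦC, map_sub, map_mul, map_one]
    congr 2
    change optionEquivLeft R _ (rename e (X s)) = _
    rw [rename_X, show e s = some ⟨s, hs⟩ from Equiv.optionSubtypeNe_symm_of_ne hs,
      optionEquivLeft_X_some]
  let J₁ : Ideal (MvPolynomial {s // s ≠ s₀} R) := Ideal.span (r₁ '' {x | x.1 ∈ T'})
  have hmap : Ideal.map Φ (Ideal.span (locRel M '' (T' : Set M))) =
      Ideal.map (Polynomial.C : _ →+* Polynomial (MvPolynomial {s // s ≠ s₀} R)) J₁ := by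
    rw [Ideal.map_span, Ideal.map_span]
    congr 1
    ext y
    constructor
    · rintro ⟨_, ⟨s, hs, rfl⟩, rfl⟩
      have hne : s ≠ s₀ := fun h => hs₀ (h ▸ hs)
      exact ⟨r₁ ⟨s, hne⟩, ⟨⟨s, hne⟩, hs, rfl⟩, (hΦs s hne).symm⟩
    · rintro ⟨_, ⟨x, hx, rfl⟩, rfl⟩
      exact ⟨locRel M x.1, ⟨x.1, hx, rfl⟩, hΦs x.1 x.2⟩
  have h1 : Φ a * (Polynomial.C (C (s₀ : R)) * Polynomial.X - 1) ∈
      Ideal.map (Polynomial.C : _ →+* Polynomial (MvPolynomial {s // s ≠ s₀} R)) J₁ := by
    rw [← hmap, ← hΦ0, ← map_mul]
    exact Ideal.mem_map_of_mem _ h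
  have h2 := mem_map_C_of_mul_mem J₁ _ _ h1
  rw [← hmap] at h2
  obtain ⟨x, hx, hxa⟩ := (Ideal.mem_map_iff_of_surjective Φ Φ.surjective).1 h2
  rwa [← Φ.injective hxa]

end NZD


section Koszul

open CotT

variable {R : Type u} [CommRing R] (M : Submonoid R) (S : Type v) [CommRing S] [Algebra R S]
  [IsLocalization M S]

lemma rel_locPres (s : M) : rel (locPres M S) s = locRel M s := rfl

theorem relKer_le_trivRel_locPres : relKer (locPres M S) ≤ trivRel (locPres M S) := by
  classical
  set P := locPres M S with hP
  suffices H : ∀ (T : Finset M) (q : relMod P), q ∈ relKer P → q.support ⊆ T → q ∈ trivRel P by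
    intro q hq
    exact H q.support q hq (Finset.Subset.refl _)
  intro T
  induction T using Finset.induction_on with
  | empty =>
    intro q _ hsupp
    rw [Finset.subset_empty, Finsupp.support_eq_empty] at hsupp
    rw [hsupp]
    exact Submodule.zero_mem _
  | insert s₀ T' hs₀ ih =>
    intro q hq hsupp
    have hq0 : jmap P q = 0 := hq
    set a := q s₀ with ha
    -- `a * rel s₀ ∈ span (rel '' T')`
    have h1 : a * rel P s₀ ∈ Ideal.span (rel P '' (T' : Set M)) := by
      have hsum : jmap P q = ∑ s ∈ insert s₀ T', q s * rel P s := by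
        rw [jmap, Finsupp.linearCombination_apply, Finsupp.sum_of_support_subset _ hsupp]
        · rfl
        · intro i _
          exact zero_smul _ _
      rw [hq0, Finset.sum_insert hs₀] at hsum
      have h2 : a * rel P s₀ = -∑ s ∈ T', q s * rel P s := by
        rw [eq_neg_iff_add_eq_zero]
        exact hsum.symm
      rw [h2]
      refine (Submodule.neg_mem_iff _).2 (Submodule.sum_mem _ fun s hs => ?_)
      exact Ideal.mul_mem_left _ _ (Ideal.subset_span ⟨s, hs, rfl⟩)
    have h3 : a ∈ Ideal.span (rel P '' (T' : Set M)) := locRel_nzd M T' s₀ hs₀ a h1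
    obtain ⟨c, hc⟩ := (Submodule.mem_span_image_finset_iff_exists_fun' (R := P.toExtension.Ring)
      (v := rel P) (s := T')).1 h3
    -- the correction terms
    set u : relMod P := ∑ s ∈ T', Finsupp.single s (c s * rel P s₀) with hu
    set t : relMod P := Finsupp.single s₀ a - u with ht
    have ht_mem : t ∈ trivRel P := by
      have : t = ∑ s ∈ T', c s • (jmap P (Finsupp.single s 1) • (Finsupp.single s₀ 1 : relMod P) -
          jmap P (Finsupp.single s₀ 1) • (Finsupp.single s 1 : relMod P)) := by
        rw [ht, hu, ← hc, Finsupp.single_finsetSum, ← Finset.sum_sub_distrib]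
        refine Finset.sum_congr rfl fun s _ => ?_
        simp only [jmap_single, one_mul, Finsupp.smul_single, smul_eq_mul, mul_one, smul_sub]
      rw [this]
      refine Submodule.sum_mem _ fun s _ => Submodule.smul_mem _ _ (Submodule.subset_span ⟨_, _, rfl⟩)
    set q' : relMod P := Finsupp.erase s₀ q + u with hq'
    have hqq : q = q' + t := by
      rw [hq', ht, ha]
      have := Finsupp.single_add_erase s₀ q
      rw [add_comm] at this
      rw [add_add_sub_cancel, this]
    have hq'ker : q' ∈ relKer P := by
      have : q' = q - t := by rw [hqq]; abel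
      rw [this]
      exact Submodule.sub_mem _ hq (trivRel_le_relKer P ht_mem)
    have hq'supp : q'.support ⊆ T' := by
      refine (Finsupp.support_add).trans (Finset.union_subset ?_ ?_)
      · rw [Finsupp.support_erase]
        intro x hx
        rw [Finset.mem_erase] at hx
        have := hsupp hx.2
        rw [Finset.mem_insert] at this
        exact this.resolve_left hx.1
      · refine (Finsupp.support_finsetSum).trans ?_
        intro x hx
        rw [Finset.mem_biUnion] at hx
        obtain ⟨s, hs, hxs⟩ := hx
        have := Finsupp.support_single_subset hxs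
        rw [Finset.mem_singleton] at this
        rwa [this]
    rw [hqq]
    exact Submodule.add_mem _ (ih q' hq'ker hq'supp) ht_mem

theorem subsingleton_T2_locPres (N : Type m) [AddCommGroup N] [Module S N] :
    Subsingleton (T2 (locPres M S) N) :=
  subsingleton_T2_of_relKer_le _ N (relKer_le_trivRel_locPres M S)

end Koszul

end Groth.Agent.H61.LS
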