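import Mathlib

/-! A presentation of a localization `S = M⁻¹R`: variables `y_s`, relations `s y_s - 1`. -/

namespace Groth.Agent.H61.LS

open MvPolynomial

universe u v

variable {R : Type u} [CommRing R] (M : Submonoid R) (S : Type v) [CommRing S] [Algebra R S]
  [IsLocalization M S]

/-- the value of the variables. -/
noncomputable def locVal (s : M) : S := IsLocalization.mk' S 1 s

/-- the relations. -/
noncomputable def locRel (s : M) : MvPolynomial M R := C (s : R) * X s - 1

lemma aeval_locRel (s : M) : aeval (locVal M S) (locRel M s) = 0 := by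
  rw [locRel, map_sub, map_mul, aeval_C, aeval_X, map_one, locVal, mul_comm,
    IsLocalization.mk'_spec, map_one, sub_self]

lemma locVal_surjective : Function.Surjective (aeval (R := R) (locVal M S)) := by
  intro x
  obtain ⟨r, s, rfl⟩ := IsLocalization.exists_mk'_eq M x
  refine ⟨C r * X s, ?_⟩
  rw [map_mul, aeval_C, aeval_X, locVal, IsLocalization.mul_mk'_eq_mk'_of_mul, mul_one]

lemma ker_aeval_locVal :
    RingHom.ker (aeval (R := R) (locVal M S)) = Ideal.span (Set.range (locRel M)) := by
  apply le_antisymm
  · set J := Ideal.span (Set.range (locRel M)) with hJ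
    -- the inverse map `S → R[y]/J`
    have hunit : ∀ s : M, IsUnit ((algebraMap R (MvPolynomial M R ⧸ J)) s) := by
      intro s
      refine IsUnit.of_mul_eq_one (Ideal.Quotient.mk J (X s)) ?_
      change Ideal.Quotient.mk J (C (s : R)) * Ideal.Quotient.mk J (X s) = 1
      rw [← map_mul, ← map_one (Ideal.Quotient.mk J), ← sub_eq_zero, ← map_sub,
        Ideal.Quotient.eq_zero_iff_mem]
      exact Ideal.subset_span ⟨s, rfl⟩
    let φ : S →+* MvPolynomial M R ⧸ J := IsLocalization.lift hunit
    have hφ : φ.comp (aeval (R := R) (locVal M S) : MvPolynomial M R →+* S) = Ideal.Quotient.mk J := by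
      apply MvPolynomial.ringHom_ext
      · intro r
        change φ (aeval (locVal M S) (C r)) = _
        rw [aeval_C, IsLocalization.lift_eq]
        rfl
      · intro s
        change φ (aeval (locVal M S) (X s)) = _
        rw [aeval_X]
        have h1 : φ (locVal M S s) * (algebraMap R (MvPolynomial M R ⧸ J)) s = 1 := by
          rw [← IsLocalization.lift_eq (S := S) hunit (s : R), ← map_mul, locVal,
            IsLocalization.mk'_spec, map_one, map_one]
        have h2 : Ideal.Quotient.mk J (X s) * (algebraMap R (MvPolynomial M R ⧸ J)) s = 1 := by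
          change Ideal.Quotient.mk J (X s) * Ideal.Quotient.mk J (C (s : R)) = 1
          rw [← map_mul, ← map_one (Ideal.Quotient.mk J), ← sub_eq_zero, ← map_sub,
            Ideal.Quotient.eq_zero_iff_mem, mul_comm]
          exact Ideal.subset_span ⟨s, rfl⟩
        exact (hunit s).mul_left_injective (h1.trans h2.symm)
    intro p hp
    rw [RingHom.mem_ker] at hp
    have : Ideal.Quotient.mk J p = 0 := by
      rw [← hφ, RingHom.comp_apply]
      change φ (aeval (locVal M S) p) = 0
      rw [hp, map_zero]
    exact Ideal.Quotient.eq_zero_iff_mem.1 this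
  · rw [Ideal.span_le]
    rintro _ ⟨s, rfl⟩
    exact aeval_locRel M S s

/-- the presentation of the localization. -/
noncomputable def locPres : Algebra.Presentation R S M M where
  toGenerators := Algebra.Generators.ofSurjective (locVal M S) (locVal_surjective M S)
  relation := locRel M
  span_range_relation_eq_ker := by
    rw [Algebra.Generators.ker_eq_ker_aeval_val]
    exact (ker_aeval_locVal M S).symm

end Groth.Agent.H61.LS
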