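import Groth.Agent.H61.LS.FinsuppLoc
import Groth.Agent.H61.LS.D2Inj

set_option linter.style.haveILetI false
set_option linter.unusedSectionVars false

/-! Descent of triviality of relations along a localization-like map of presentations. -/

open TensorProduct

namespace Groth.Agent.H61.LS

open CotT

universe u v w t u' v' w'

variable {A : Type u} {B : Type v} {ι : Type w} {σ : Type t}
variable [CommRing A] [CommRing B] [Algebra A B]
variable {A' : Type u'} {B' : Type v'} {ι' : Type w'}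
variable [CommRing A'] [CommRing B'] [Algebra A' B']
variable (P : Algebra.Presentation A B ι σ) (P' : Algebra.Presentation A' B' ι' σ)
variable (ψ : P.toExtension.Ring →+* P'.toExtension.Ring) (hrel : ∀ s, rel P' s = ψ (rel P s))

include hrel in
lemma jmap_coeffMap (x : relMod P) : jmap P' (coeffMap ψ x) = ψ (jmap P x) := by
  induction x using Finsupp.induction_linear with
  | zero => simp
  | add f g hf hg => rw [map_add, map_add, hf, hg, map_add, map_add]
  | single s r => rw [coeffMap_single, jmap_single, jmap_single, hrel, map_mul]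

variable (S : Submonoid P.toExtension.Ring)
variable (h1 : ∀ r'' : P'.toExtension.Ring, ∃ r : P.toExtension.Ring, ∃ w ∈ S, ψ w * r'' = ψ r)
variable (h2 : ∀ x : P.toExtension.Ring, ψ x = 0 → ∃ v ∈ S, v * x = 0)

include hrel h1 in
lemma exists_trivRel_lift (t' : relMod P') (ht' : t' ∈ trivRel P') :
    ∃ t ∈ trivRel P, ∃ u ∈ S, coeffMap ψ t = ψ u • t' := by
  induction ht' using Submodule.span_induction with
  | mem x hx =>
    obtain ⟨a', b', rfl⟩ := hx
    obtain ⟨a, wa, hwa, ha⟩ := exists_coeffMap_eq ψ S h1 a'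
    obtain ⟨b, wb, hwb, hb⟩ := exists_coeffMap_eq ψ S h1 b'
    refine ⟨jmap P a • b - jmap P b • a, Submodule.subset_span ⟨a, b, rfl⟩, wa * wb,
      S.mul_mem hwa hwb, ?_⟩
    rw [map_sub, LinearMap.map_smulₛₗ, LinearMap.map_smulₛₗ, ← jmap_coeffMap P P' ψ hrel,
      ← jmap_coeffMap P P' ψ hrel, ha, hb, map_smul, map_smul, smul_eq_mul, smul_eq_mul, smul_smul,
      smul_smul, map_mul, smul_sub, smul_smul, smul_smul]
    congr 2 <;> ring
  | zero => exact ⟨0, Submodule.zero_mem _, 1, S.one_mem, by rw [map_zero, smul_zero]⟩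
  | add x y _ _ hx hy =>
    obtain ⟨t₁, ht₁, u₁, hu₁, h₁⟩ := hx
    obtain ⟨t₂, ht₂, u₂, hu₂, h₂⟩ := hy
    refine ⟨u₂ • t₁ + u₁ • t₂, Submodule.add_mem _ (Submodule.smul_mem _ _ ht₁)
      (Submodule.smul_mem _ _ ht₂), u₁ * u₂, S.mul_mem hu₁ hu₂, ?_⟩
    rw [map_add, LinearMap.map_smulₛₗ, LinearMap.map_smulₛₗ, h₁, h₂, smul_smul, smul_smul, map_mul,
      smul_add, mul_comm (ψ u₂)]
  | smul r'' x _ hx =>
    obtain ⟨t₁, ht₁, u₁, hu₁, h₁⟩ := hx
    obtain ⟨r, w, hw, hr⟩ := h1 r''
    refine ⟨r • t₁, Submodule.smul_mem _ _ ht₁, w * u₁, S.mul_mem hw hu₁, ?_⟩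
    rw [LinearMap.map_smulₛₗ, h₁, smul_smul, smul_smul, map_mul, ← hr]
    congr 1
    ring

include hrel h1 h2 in
/-- relations with coefficients in `I` become trivial after multiplication by an element of `S`, provided
`d₂` of the second presentation is injective. -/
theorem exists_smul_mem_trivRel (hinj : Function.Injective (d2 P'))
    (hker : ∀ x ∈ P.toExtension.ker, ψ x ∈ P'.toExtension.ker)
    (q : relMod P) (hq : q ∈ relKer P) (hI : ∀ s, q s ∈ P.toExtension.ker) :
    ∃ u ∈ S, u • q ∈ trivRel P := by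
  have hq' : coeffMap ψ q ∈ relKer P' := by
    change jmap P' (coeffMap ψ q) = 0
    rw [jmap_coeffMap P P' ψ hrel, show jmap P q = 0 from hq, map_zero]
  have hI' : ∀ s, coeffMap ψ q s ∈ P'.toExtension.ker := by
    intro s
    rw [coeffMap_apply]
    exact hker _ (hI s)
  have h3 := mem_trivRel_of_coeff_mem_ker P' hinj _ hq' hI'
  obtain ⟨t, ht, u, hu, htu⟩ := exists_trivRel_lift P P' ψ hrel S h1 _ h3
  have h4 : coeffMap ψ (t - u • q) = 0 := by
    rw [map_sub, LinearMap.map_smulₛₗ, htu, sub_self]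
  obtain ⟨v, hv, hvx⟩ := exists_smul_eq_zero ψ S h2 _ h4
  refine ⟨v * u, S.mul_mem hv hu, ?_⟩
  rw [smul_sub, sub_eq_zero, smul_smul] at hvx
  rw [← hvx]
  exact Submodule.smul_mem _ _ ht

end Groth.Agent.H61.LS
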