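import Groth.Agent.H61.LS.RegSmoothGlobal
import Groth.Agent.H61.LS.LocKoszul
import Groth.Agent.H61.LS.NineGeneral

set_option linter.style.haveILetI false
set_option linter.unusedSectionVars false

/-! `T²` of a formally smooth localization (at a prime) of a finitely generated algebra over a field vanishes. -/

namespace Groth.Agent.H61.LS

open CotT

universe u v z m

section abstract

variable (A : Type u) (B : Type v) (C : Type z) [CommRing A] [CommRing B] [CommRing C]
variable [Algebra A B] [Algebra B C] [Algebra A C] [IsScalarTower A B C]

/-- if `T²(B/A, -)` vanishes, so does `T²(S⁻¹B/A, -)`. -/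
theorem subsingleton_T2_of_isLocalization (S : Submonoid B) [IsLocalization S C]
    (M : Type m) [AddCommGroup M] [Module C M] [Module B M]
    [IsScalarTower B C M] (h : Subsingleton (T2 (canon A B) M)) :
    Subsingleton (T2 (canon A C) M) := by
  let hα : PresHom (canon A B) (canon A C) := canonHom A B A C
  let hβ : PresHom (canon A C) (locPres S C) := defaultPresHom _ _
  obtain ⟨-, -, -, x2, -⟩ := nine_term_general (canon A B) (locPres S C) (canon A C) hα hβ M
  haveI : Subsingleton (T2 (locPres S C) M) := subsingleton_T2_locPres S C M
  refine ⟨fun a b => ?_⟩
  obtain ⟨a', rfl⟩ := (x2 a).1 (Subsingleton.elim _ _)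
  obtain ⟨b', rfl⟩ := (x2 b).1 (Subsingleton.elim _ _)
  rw [Subsingleton.elim a' b']

end abstract

section concrete

variable (k B : Type u) [Field k] [CommRing B] [Algebra k B] [Algebra.FiniteType k B]
variable (p : Ideal B) [p.IsPrime]

/-- if `B_p` is formally smooth over the field `k` (with `B` finitely generated), then
`T²(B_p/k, M) = 0` for all `M`. -/
theorem subsingleton_T2_localization_of_formallySmooth
    [Algebra.FormallySmooth k (Localization.AtPrime p)]
    (M : Type m) [AddCommGroup M] [Module (Localization.AtPrime p) M] :
    Subsingleton (T2 (canon k (Localization.AtPrime p)) M) := by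
  haveI : Algebra.FinitePresentation k B := Algebra.FinitePresentation.of_finiteType.1 inferInstance
  obtain ⟨g, hg, hsm⟩ := Algebra.IsSmoothAt.exists_notMem_smooth k p
  have hle : Submonoid.powers g ≤ p.primeCompl := by
    rintro _ ⟨n, rfl⟩
    exact fun h => hg (Ideal.IsPrime.mem_of_pow_mem inferInstance n h)
  letI alg : Algebra (Localization.Away g) (Localization.AtPrime p) :=
    IsLocalization.localizationAlgebraOfSubmonoidLe (Localization.Away g) (Localization.AtPrime p)
      (Submonoid.powers g) p.primeCompl hle
  haveI tower : IsScalarTower B (Localization.Away g) (Localization.AtPrime p) :=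
    IsLocalization.localization_isScalarTower_of_submonoid_le (Localization.Away g)
      (Localization.AtPrime p) (Submonoid.powers g) p.primeCompl hle
  haveI isloc : IsLocalization (p.primeCompl.map (algebraMap B (Localization.Away g)))
      (Localization.AtPrime p) :=
    IsLocalization.isLocalization_of_submonoid_le (Localization.Away g)
      (Localization.AtPrime p) (Submonoid.powers g) p.primeCompl hle
  haveI tower' : IsScalarTower k (Localization.Away g) (Localization.AtPrime p) := by
    refine IsScalarTower.of_algebraMap_eq fun x => ?_
    rw [IsScalarTower.algebraMap_apply k B (Localization.AtPrime p),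
      IsScalarTower.algebraMap_apply k B (Localization.Away g),
      ← IsScalarTower.algebraMap_apply B (Localization.Away g) (Localization.AtPrime p)]
  letI modM : Module (Localization.Away g) M :=
    Module.compHom M (algebraMap (Localization.Away g) (Localization.AtPrime p))
  haveI towerM : IsScalarTower (Localization.Away g) (Localization.AtPrime p) M :=
    IsScalarTower.of_compHom _ _ _
  haveI : Algebra.FinitePresentation k (Localization.Away g) := hsm.2
  haveI : Algebra.FiniteType k (Localization.Away g) := inferInstance
  haveI : Algebra.FormallySmooth k (Localization.Away g) := hsm.1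
  have h2 : Subsingleton (T2 (canon k (Localization.Away g)) M) :=
    subsingleton_T2_of_formallySmooth_field k (Localization.Away g) M
  exact subsingleton_T2_of_isLocalization k (Localization.Away g) (Localization.AtPrime p)
    (p.primeCompl.map (algebraMap B (Localization.Away g))) M h2

end concrete

end Groth.Agent.H61.LS
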