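import Mathlib

/-! Abstract diagram chase: a short exact sequence `0 → K• → W• → P•` of three-term complexes of abelian
groups (surjective with additive sections in degrees `0`, `1`) and its nine-term cohomology sequence, at the level of
representatives. -/

namespace Groth.Agent.H61.LS

/-- A left exact sequence `0 → K• → W• → P•` of three-term complexes of abelian groups, with additive sections
in degrees 0 and 1. -/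
structure Ses3 (K0 K1 K2 W0 W1 W2 P0 P1 P2 : Type*)
    [AddCommGroup K0] [AddCommGroup K1] [AddCommGroup K2]
    [AddCommGroup W0] [AddCommGroup W1] [AddCommGroup W2]
    [AddCommGroup P0] [AddCommGroup P1] [AddCommGroup P2] where
  dK0 : K0 →+ K1
  dK1 : K1 →+ K2
  dW0 : W0 →+ W1
  dW1 : W1 →+ W2
  dP0 : P0 →+ P1
  dP1 : P1 →+ P2
  b0 : K0 →+ W0
  b1 : K1 →+ W1
  b2 : K2 →+ W2
  a0 : W0 →+ P0
  a1 : W1 →+ P1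
  a2 : W2 →+ P2
  s0 : P0 →+ W0
  s1 : P1 →+ W1
  dK : ∀ x, dK1 (dK0 x) = 0
  dW : ∀ x, dW1 (dW0 x) = 0
  dP : ∀ x, dP1 (dP0 x) = 0
  bd0 : ∀ x, b1 (dK0 x) = dW0 (b0 x)
  bd1 : ∀ x, b2 (dK1 x) = dW1 (b1 x)
  ad0 : ∀ x, a1 (dW0 x) = dP0 (a0 x)
  ad1 : ∀ x, a2 (dW1 x) = dP1 (a1 x)
  inj0 : ∀ x, b0 x = 0 → x = 0
  inj1 : ∀ x, b1 x = 0 → x = 0
  inj2 : ∀ x, b2 x = 0 → x = 0
  ab0 : ∀ x, a0 (b0 x) = 0
  ab1 : ∀ x, a1 (b1 x) = 0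
  ab2 : ∀ x, a2 (b2 x) = 0
  ex0 : ∀ y, a0 y = 0 → ∃ x, b0 x = y
  ex1 : ∀ y, a1 y = 0 → ∃ x, b1 x = y
  ex2 : ∀ y, a2 y = 0 → ∃ x, b2 x = y
  as0 : ∀ x, a0 (s0 x) = x
  as1 : ∀ x, a1 (s1 x) = x

namespace Ses3

variable {K0 K1 K2 W0 W1 W2 P0 P1 P2 : Type*}
    [AddCommGroup K0] [AddCommGroup K1] [AddCommGroup K2]
    [AddCommGroup W0] [AddCommGroup W1] [AddCommGroup W2]
    [AddCommGroup P0] [AddCommGroup P1] [AddCommGroup P2]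
    (S : Ses3 K0 K1 K2 W0 W1 W2 P0 P1 P2)

lemma exact_H0 (ψ : W0) (h1 : S.dW0 ψ = 0) (h2 : S.a0 ψ = 0) : ∃ x, S.dK0 x = 0 ∧ S.b0 x = ψ := by
  obtain ⟨x, rfl⟩ := S.ex0 ψ h2
  refine ⟨x, S.inj1 _ ?_, rfl⟩
  rw [S.bd0, h1]

lemma exists_s0_sub (ψ : W0) : ∃ θ, S.s0 (S.a0 ψ) - ψ = S.b0 θ := by
  obtain ⟨θ, h⟩ := S.ex0 (S.s0 (S.a0 ψ) - ψ) (by rw [map_sub, S.as0, sub_self])
  exact ⟨θ, h.symm⟩

lemma exists_s1_sub (c : W1) : ∃ χ, S.s1 (S.a1 c) - c = S.b1 χ := by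
  obtain ⟨θ, h⟩ := S.ex1 (S.s1 (S.a1 c) - c) (by rw [map_sub, S.as1, sub_self])
  exact ⟨θ, h.symm⟩

lemma exists_conn0 (φ : P0) (hφ : S.dP0 φ = 0) : ∃ χ, S.b1 χ = S.dW0 (S.s0 φ) :=
  S.ex1 _ (by rw [S.ad0, S.as0, hφ])

/-- representative of the connecting map `H⁰(P) → H¹(K)`. -/
noncomputable def conn0 (φ : P0) (hφ : S.dP0 φ = 0) : K1 := Classical.choose (S.exists_conn0 φ hφ)

lemma b1_conn0 (φ : P0) (hφ : S.dP0 φ = 0) : S.b1 (S.conn0 φ hφ) = S.dW0 (S.s0 φ) :=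
  Classical.choose_spec (S.exists_conn0 φ hφ)

lemma dK1_conn0 (φ : P0) (hφ : S.dP0 φ = 0) : S.dK1 (S.conn0 φ hφ) = 0 :=
  S.inj2 _ (by rw [S.bd1, b1_conn0, S.dW])

lemma conn0_add (φ φ' : P0) (hφ : S.dP0 φ = 0) (hφ' : S.dP0 φ' = 0) (h : S.dP0 (φ + φ') = 0) :
    S.conn0 (φ + φ') h = S.conn0 φ hφ + S.conn0 φ' hφ' := by
  have : S.b1 (S.conn0 (φ + φ') h - (S.conn0 φ hφ + S.conn0 φ' hφ')) = 0 := by
    rw [map_sub, map_add, b1_conn0, b1_conn0, b1_conn0, map_add, map_add, sub_self]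
  exact sub_eq_zero.1 (S.inj1 _ this)

lemma conn0_a0 (ψ : W0) (hψ : S.dW0 ψ = 0) (h : S.dP0 (S.a0 ψ) = 0) :
    ∃ θ, S.conn0 (S.a0 ψ) h = S.dK0 θ := by
  obtain ⟨θ, hθ⟩ := S.exists_s0_sub ψ
  refine ⟨θ, sub_eq_zero.1 (S.inj1 _ ?_)⟩
  rw [map_sub, b1_conn0, S.bd0, ← hθ, map_sub, hψ, sub_zero, sub_self]

lemma exact_at_H0P (φ : P0) (hφ : S.dP0 φ = 0) (θ : K0) (h : S.conn0 φ hφ = S.dK0 θ) :
    ∃ ψ, S.dW0 ψ = 0 ∧ S.a0 ψ = φ := by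
  refine ⟨S.s0 φ - S.b0 θ, ?_, ?_⟩
  · rw [map_sub, ← S.bd0, ← h, b1_conn0, sub_self]
  · rw [map_sub, S.as0, S.ab0, sub_zero]

lemma exact_at_H1K (χ : K1) (ψ : W0) (h : S.b1 χ = S.dW0 ψ) :
    ∃ (φ : P0) (hφ : S.dP0 φ = 0) (θ : K0), S.conn0 φ hφ - χ = S.dK0 θ := by
  have hφ : S.dP0 (S.a0 ψ) = 0 := by rw [← S.ad0, ← h, S.ab1]
  obtain ⟨θ, hθ⟩ := S.exists_s0_sub ψ
  refine ⟨S.a0 ψ, hφ, θ, sub_eq_zero.1 (S.inj1 _ ?_)⟩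
  rw [map_sub, map_sub, b1_conn0, h, S.bd0, ← hθ, map_sub, sub_self]

lemma exact_at_H1W (c : W1) (hc : S.dW1 c = 0) (φ : P0) (h : S.a1 c = S.dP0 φ) :
    ∃ χ, S.dK1 χ = 0 ∧ ∃ ψ, c - S.b1 χ = S.dW0 ψ := by
  obtain ⟨χ, hχ⟩ := S.ex1 (c - S.dW0 (S.s0 φ)) (by rw [map_sub, h, S.ad0, S.as0, sub_self])
  refine ⟨χ, S.inj2 _ ?_, S.s0 φ, ?_⟩
  · rw [S.bd1, hχ, map_sub, hc, S.dW, sub_self]
  · rw [hχ]; abel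

lemma exists_conn1 (c₀ : P1) (h : S.dP1 c₀ = 0) : ∃ ω, S.b2 ω = S.dW1 (S.s1 c₀) :=
  S.ex2 _ (by rw [S.ad1, S.as1, h])

/-- representative of the connecting map `H¹(P) → H²(K)`. -/
noncomputable def conn1 (c₀ : P1) (h : S.dP1 c₀ = 0) : K2 := Classical.choose (S.exists_conn1 c₀ h)

lemma b2_conn1 (c₀ : P1) (h : S.dP1 c₀ = 0) : S.b2 (S.conn1 c₀ h) = S.dW1 (S.s1 c₀) :=
  Classical.choose_spec (S.exists_conn1 c₀ h)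

lemma conn1_add (c c' : P1) (hc : S.dP1 c = 0) (hc' : S.dP1 c' = 0) (h : S.dP1 (c + c') = 0) :
    S.conn1 (c + c') h = S.conn1 c hc + S.conn1 c' hc' := by
  have : S.b2 (S.conn1 (c + c') h - (S.conn1 c hc + S.conn1 c' hc')) = 0 := by
    rw [map_sub, map_add, b2_conn1, b2_conn1, b2_conn1, map_add, map_add, sub_self]
  exact sub_eq_zero.1 (S.inj2 _ this)

lemma conn1_cobound (φ : P0) (h : S.dP1 (S.dP0 φ) = 0) : ∃ χ, S.conn1 (S.dP0 φ) h = S.dK1 χ := by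
  obtain ⟨χ, hχ⟩ := S.ex1 (S.s1 (S.dP0 φ) - S.dW0 (S.s0 φ))
    (by rw [map_sub, S.as1, S.ad0, S.as0, sub_self])
  refine ⟨χ, sub_eq_zero.1 (S.inj2 _ ?_)⟩
  rw [map_sub, b2_conn1, S.bd1, hχ, map_sub, S.dW, sub_zero, sub_self]

lemma conn1_a1 (c : W1) (hc : S.dW1 c = 0) (h : S.dP1 (S.a1 c) = 0) :
    ∃ χ, S.conn1 (S.a1 c) h = S.dK1 χ := by
  obtain ⟨χ, hχ⟩ := S.exists_s1_sub c
  refine ⟨χ, sub_eq_zero.1 (S.inj2 _ ?_)⟩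
  rw [map_sub, b2_conn1, S.bd1, ← hχ, map_sub, hc, sub_zero, sub_self]

lemma exact_at_H1P (c₀ : P1) (h : S.dP1 c₀ = 0) (χ : K1) (hχ : S.conn1 c₀ h = S.dK1 χ) :
    ∃ c, S.dW1 c = 0 ∧ S.a1 c = c₀ := by
  refine ⟨S.s1 c₀ - S.b1 χ, ?_, ?_⟩
  · rw [map_sub, ← S.bd1, ← hχ, b2_conn1, sub_self]
  · rw [map_sub, S.as1, S.ab1, sub_zero]

lemma exact_at_H2K (ω : K2) (c : W1) (h : S.b2 ω = S.dW1 c) :
    ∃ (c₀ : P1) (hc₀ : S.dP1 c₀ = 0) (χ : K1), S.conn1 c₀ hc₀ - ω = S.dK1 χ := by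
  have hc₀ : S.dP1 (S.a1 c) = 0 := by rw [← S.ad1, ← h, S.ab2]
  obtain ⟨χ, hχ⟩ := S.exists_s1_sub c
  refine ⟨S.a1 c, hc₀, χ, sub_eq_zero.1 (S.inj2 _ ?_)⟩
  rw [map_sub, map_sub, b2_conn1, h, S.bd1, ← hχ, map_sub, sub_self]

lemma exact_at_H2W (φ : W2) (c₀ : P1) (h : S.a2 φ = S.dP1 c₀) :
    ∃ ω c, φ - S.b2 ω = S.dW1 c := by
  obtain ⟨ω, hω⟩ := S.ex2 (φ - S.dW1 (S.s1 c₀)) (by rw [map_sub, h, S.ad1, S.as1, sub_self])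
  refine ⟨ω, S.s1 c₀, ?_⟩
  rw [hω]; abel

end Ses3

end Groth.Agent.H61.LS
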