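import Groth.Agent.H61.LS.CompL2
import Groth.Agent.H61.LS.Ses3

set_option linter.style.haveILetI false
set_option linter.unusedSectionVars false

/-! The nine-term sequence for `A → B → C` computed with `P`, `Q.comp P`, `Q`. -/

open TensorProduct

namespace Groth.Agent.H61.LS

open CotT

universe u v z w t w' t' m

lemma exists_addMonoidHom_of_quotient {R M N : Type*} [Ring R] [AddCommGroup M] [Module R M]
    [AddCommGroup N] (p : Submodule R M) (f : M →+ N) (h : ∀ x ∈ p, f x = 0) :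
    ∃ g : M ⧸ p →+ N, ∀ x, g (Submodule.Quotient.mk x) = f x := by
  refine ⟨((p.restrictScalars ℤ).liftQ f.toIntLinearMap (fun x hx => h x hx)).toAddMonoidHom.comp
    (Submodule.Quotient.restrictScalarsEquiv ℤ p).symm.toLinearMap.toAddMonoidHom, fun x => ?_⟩
  rfl

variable {A : Type u} {B : Type v} {C : Type z} [CommRing A] [CommRing B] [CommRing C]
variable [Algebra A B] [Algebra B C] [Algebra A C] [IsScalarTower A B C]
variable {ι : Type w} {σ : Type t} {ι' : Type w'} {σ' : Type t'}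
variable (P : Algebra.Presentation A B ι σ) (Q : Algebra.Presentation B C ι' σ')
variable (M : Type m) [AddCommGroup M] [Module C M] [Module B M] [IsScalarTower B C M]

/-- the short exact sequence of dual complexes. -/
noncomputable def ses3 : Ses3 (L0 Q →ₗ[C] M) (L1 Q →ₗ[C] M) (L2 Q →ₗ[C] M)
    (L0 (Q.comp P) →ₗ[C] M) (L1 (Q.comp P) →ₗ[C] M) (L2 (Q.comp P) →ₗ[C] M)
    (L0 P →ₗ[B] M) (L1 P →ₗ[B] M) (L2 P →ₗ[B] M) where
  dK0 := (d1Star Q M).toAddMonoidHom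
  dK1 := (d2Star Q M).toAddMonoidHom
  dW0 := (d1Star (Q.comp P) M).toAddMonoidHom
  dW1 := (d2Star (Q.comp P) M).toAddMonoidHom
  dP0 := (d1Star P M).toAddMonoidHom
  dP1 := (d2Star P M).toAddMonoidHom
  b0 := ((beta P Q).pull0 M).toAddMonoidHom
  b1 := ((beta P Q).pull1 M).toAddMonoidHom
  b2 := ((beta P Q).pull2 M).toAddMonoidHom
  a0 := ((alpha P Q).pull0 M).toAddMonoidHom
  a1 := ((alpha P Q).pull1 M).toAddMonoidHom
  a2 := ((alpha P Q).pull2 M).toAddMonoidHom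
  s0 := sec0 P Q M
  s1 := sec1 P Q M
  dK x := LinearMap.congr_fun (d2Star_comp_d1Star Q M) x
  dW x := LinearMap.congr_fun (d2Star_comp_d1Star (Q.comp P) M) x
  dP x := LinearMap.congr_fun (d2Star_comp_d1Star P M) x
  bd0 x := (beta P Q).pull1_d1Star M x
  bd1 x := (beta P Q).pull2_d2Star M x
  ad0 x := (alpha P Q).pull1_d1Star M x
  ad1 x := (alpha P Q).pull2_d2Star M x
  inj0 x hx := pull0_beta_injective P Q M x hx
  inj1 x hx := pull1_beta_injective P Q M x hx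
  inj2 x hx := pull2_beta_injective P Q M x hx
  ab0 x := pull0_alpha_beta P Q M x
  ab1 x := pull1_alpha_beta P Q M x
  ab2 x := pull2_alpha_beta P Q M x
  ex0 y hy := pull0_exact P Q M y hy
  ex1 y hy := pull1_exact P Q M y hy
  ex2 y hy := pull2_exact P Q M y hy
  as0 x := pull0_sec0 P Q M x
  as1 x := pull1_sec1 P Q M x


lemma T0pull_beta_injective : Function.Injective ((beta P Q).T0pull M) := by
  rw [injective_iff_map_eq_zero]
  intro ψ hψ
  apply Subtype.ext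
  have : (beta P Q).pull0 M ψ.1 = 0 := congrArg Subtype.val hψ
  exact pull0_beta_injective P Q M _ this

lemma exact_T0 : Function.Exact ((beta P Q).T0pull M) ((alpha P Q).T0pull M) := by
  intro ψ
  constructor
  · intro h
    have h2 : (alpha P Q).pull0 M ψ.1 = 0 := congrArg Subtype.val h
    have h1 : d1Star (Q.comp P) M ψ.1 = 0 := ψ.2
    obtain ⟨x, hx0, hx⟩ := (ses3 P Q M).exact_H0 ψ.1 h1 h2
    exact ⟨⟨x, hx0⟩, Subtype.ext hx⟩
  · rintro ⟨x, rfl⟩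
    apply Subtype.ext
    exact pull0_alpha_beta P Q M x.1

lemma exact_T1 : Function.Exact ((beta P Q).T1pull M) ((alpha P Q).T1pull M) := by
  intro x
  obtain ⟨c, rfl⟩ := Submodule.Quotient.mk_surjective _ x
  rw [T1pull_mk, Submodule.Quotient.mk_eq_zero]
  constructor
  · rintro ⟨φ, hφ⟩
    have hφ' : (ses3 P Q M).a1 c.1 = (ses3 P Q M).dP0 φ := hφ.symm
    obtain ⟨χ, hχ, ψ, hψ⟩ := (ses3 P Q M).exact_at_H1W c.1 c.2 φ hφ'
    refine ⟨Submodule.Quotient.mk ⟨χ, hχ⟩, ?_⟩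
    rw [T1pull_mk, Submodule.Quotient.eq]
    refine ⟨-ψ, ?_⟩
    change d1Star (Q.comp P) M (-ψ) = (beta P Q).pull1 M χ - c.1
    rw [map_neg]
    have : d1Star (Q.comp P) M ψ = c.1 - (beta P Q).pull1 M χ := hψ.symm
    rw [this, neg_sub]
  · rintro ⟨y, hy⟩
    obtain ⟨χ, rfl⟩ := Submodule.Quotient.mk_surjective _ y
    rw [T1pull_mk, Submodule.Quotient.eq] at hy
    obtain ⟨ψ, hψ⟩ := hy
    have hψ' : d1Star (Q.comp P) M ψ = (beta P Q).pull1 M χ.1 - c.1 := hψ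
    refine ⟨-(alpha P Q).pull0 M ψ, ?_⟩
    change d1Star P M (-(alpha P Q).pull0 M ψ) = (alpha P Q).pull1 M c.1
    rw [map_neg, ← PresHom.pull1_d1Star, hψ', map_sub, pull1_alpha_beta, zero_sub, neg_neg]

lemma exact_T2 : Function.Exact ((beta P Q).T2pull M) ((alpha P Q).T2pull M) := by
  intro x
  obtain ⟨φ, rfl⟩ := Submodule.Quotient.mk_surjective _ x
  rw [T2pull_mk, Submodule.Quotient.mk_eq_zero]
  constructor
  · rintro ⟨c₀, hc₀⟩
    have h' : (ses3 P Q M).a2 φ = (ses3 P Q M).dP1 c₀ := hc₀.symm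
    obtain ⟨ω, c, hc⟩ := (ses3 P Q M).exact_at_H2W φ c₀ h'
    refine ⟨Submodule.Quotient.mk ω, ?_⟩
    rw [T2pull_mk, Submodule.Quotient.eq]
    refine ⟨-c, ?_⟩
    rw [map_neg]
    have : d2Star (Q.comp P) M c = φ - (beta P Q).pull2 M ω := hc.symm
    rw [this, neg_sub]
  · rintro ⟨y, hy⟩
    obtain ⟨ω, rfl⟩ := Submodule.Quotient.mk_surjective _ y
    rw [T2pull_mk, Submodule.Quotient.eq] at hy
    obtain ⟨c, hc⟩ := hy
    refine ⟨-(alpha P Q).pull1 M c, ?_⟩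
    rw [map_neg, ← PresHom.pull2_d2Star, hc, map_sub, pull2_alpha_beta, zero_sub, neg_neg]


/-- the connecting map `T⁰(P) → T¹(Q)`. -/
noncomputable def delta0 : T0 P M →+ T1 Q M :=
  AddMonoidHom.mk' (fun φ => Submodule.Quotient.mk
      ⟨(ses3 P Q M).conn0 φ.1 φ.2, (ses3 P Q M).dK1_conn0 φ.1 φ.2⟩) (by
    intro φ φ'
    rw [← Submodule.Quotient.mk_add]
    congr 1
    apply Subtype.ext
    exact (ses3 P Q M).conn0_add φ.1 φ'.1 φ.2 φ'.2 (φ + φ').2)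

lemma delta0_apply (φ : T0 P M) : delta0 P Q M φ = Submodule.Quotient.mk
    ⟨(ses3 P Q M).conn0 φ.1 φ.2, (ses3 P Q M).dK1_conn0 φ.1 φ.2⟩ := rfl

lemma exact_T0_delta0 : Function.Exact ((alpha P Q).T0pull M) (delta0 P Q M) := by
  intro φ
  rw [delta0_apply, Submodule.Quotient.mk_eq_zero]
  constructor
  · rintro ⟨θ, hθ⟩
    have hθ' : (ses3 P Q M).conn0 φ.1 φ.2 = (ses3 P Q M).dK0 θ := hθ.symm
    obtain ⟨ψ, hψ0, hψ⟩ := (ses3 P Q M).exact_at_H0P φ.1 φ.2 θ hθ'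
    exact ⟨⟨ψ, hψ0⟩, Subtype.ext hψ⟩
  · rintro ⟨ψ, rfl⟩
    obtain ⟨θ, hθ⟩ := (ses3 P Q M).conn0_a0 ψ.1 ψ.2 ((alpha P Q).T0pull M ψ).2
    exact ⟨θ, hθ.symm⟩

lemma exact_delta0_T1 : Function.Exact (delta0 P Q M) ((beta P Q).T1pull M) := by
  intro x
  obtain ⟨χ, rfl⟩ := Submodule.Quotient.mk_surjective _ x
  rw [T1pull_mk, Submodule.Quotient.mk_eq_zero]
  constructor
  · rintro ⟨ψ, hψ⟩
    have hψ' : (ses3 P Q M).b1 χ.1 = (ses3 P Q M).dW0 ψ := hψ.symm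
    obtain ⟨φ, hφ, θ, hθ⟩ := (ses3 P Q M).exact_at_H1K χ.1 ψ hψ'
    refine ⟨⟨φ, hφ⟩, ?_⟩
    rw [delta0_apply, Submodule.Quotient.eq]
    exact ⟨θ, hθ.symm⟩
  · rintro ⟨φ, hφ⟩
    rw [delta0_apply, Submodule.Quotient.eq] at hφ
    obtain ⟨θ, hθ⟩ := hφ
    have hθ' : d1Star Q M θ = (ses3 P Q M).conn0 φ.1 φ.2 - χ.1 := hθ
    refine ⟨(ses3 P Q M).s0 φ.1 - (beta P Q).pull0 M θ, ?_⟩
    change d1Star (Q.comp P) M ((ses3 P Q M).s0 φ.1 - (beta P Q).pull0 M θ) = (beta P Q).pull1 M χ.1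
    rw [map_sub, ← PresHom.pull1_d1Star, hθ', map_sub]
    have := (ses3 P Q M).b1_conn0 φ.1 φ.2
    change (beta P Q).pull1 M _ = d1Star (Q.comp P) M _ at this
    rw [this]
    abel

/-- the connecting map `T¹(P) → T²(Q)` on cocycles. -/
noncomputable def delta1Aux : cocycles1 P M →+ T2 Q M :=
  AddMonoidHom.mk' (fun c => Submodule.Quotient.mk ((ses3 P Q M).conn1 c.1 c.2)) (by
    intro c c'
    rw [← Submodule.Quotient.mk_add]
    congr 1
    exact (ses3 P Q M).conn1_add c.1 c'.1 c.2 c'.2 (c + c').2)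

lemma delta1Aux_apply (c : cocycles1 P M) :
    delta1Aux P Q M c = Submodule.Quotient.mk ((ses3 P Q M).conn1 c.1 c.2) := rfl

lemma delta1Aux_cobound (c : cocycles1 P M) (hc : c ∈ coboundaries1 P M) : delta1Aux P Q M c = 0 := by
  obtain ⟨φ, hφ⟩ := hc
  have : c = ⟨(ses3 P Q M).dP0 φ, (ses3 P Q M).dP φ⟩ := Subtype.ext hφ.symm
  subst this
  rw [delta1Aux_apply, Submodule.Quotient.mk_eq_zero]
  obtain ⟨χ, hχ⟩ := (ses3 P Q M).conn1_cobound φ ((ses3 P Q M).dP φ)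
  exact ⟨χ, hχ.symm⟩

theorem exists_delta1 : ∃ δ₁ : T1 P M →+ T2 Q M,
    Function.Exact ((alpha P Q).T1pull M) δ₁ ∧ Function.Exact δ₁ ((beta P Q).T2pull M) := by
  obtain ⟨δ₁, hδ⟩ := exists_addMonoidHom_of_quotient (coboundaries1 P M) (delta1Aux P Q M)
    (delta1Aux_cobound P Q M)
  refine ⟨δ₁, ?_, ?_⟩
  · intro x
    obtain ⟨c₀, rfl⟩ := Submodule.Quotient.mk_surjective _ x
    rw [hδ]
    constructor
    · intro h
      rw [delta1Aux_apply, Submodule.Quotient.mk_eq_zero] at h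
      obtain ⟨χ, hχ⟩ := h
      have hχ' : (ses3 P Q M).conn1 c₀.1 c₀.2 = (ses3 P Q M).dK1 χ := hχ.symm
      obtain ⟨c, hc0, hc⟩ := (ses3 P Q M).exact_at_H1P c₀.1 c₀.2 χ hχ'
      refine ⟨Submodule.Quotient.mk ⟨c, hc0⟩, ?_⟩
      rw [T1pull_mk]
      congr 1
      exact Subtype.ext hc
    · rintro ⟨y, hy⟩
      obtain ⟨c, rfl⟩ := Submodule.Quotient.mk_surjective _ y
      rw [T1pull_mk, Submodule.Quotient.eq] at hy
      -- `pull1 α c - c₀` is a coboundary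
      have h1 : delta1Aux P Q M ((alpha P Q).cocycles1Pull M c - c₀) = 0 :=
        delta1Aux_cobound P Q M _ hy
      rw [map_sub, sub_eq_zero] at h1
      rw [← h1, delta1Aux_apply, Submodule.Quotient.mk_eq_zero]
      obtain ⟨χ, hχ⟩ := (ses3 P Q M).conn1_a1 c.1 c.2 ((alpha P Q).cocycles1Pull M c).2
      exact ⟨χ, hχ.symm⟩
  · intro y
    obtain ⟨ω, rfl⟩ := Submodule.Quotient.mk_surjective _ y
    rw [T2pull_mk, Submodule.Quotient.mk_eq_zero]
    constructor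
    · rintro ⟨c, hc⟩
      have hc' : (ses3 P Q M).b2 ω = (ses3 P Q M).dW1 c := hc.symm
      obtain ⟨c₀, hc₀, χ, hχ⟩ := (ses3 P Q M).exact_at_H2K ω c hc'
      refine ⟨Submodule.Quotient.mk ⟨c₀, hc₀⟩, ?_⟩
      rw [hδ, delta1Aux_apply, Submodule.Quotient.eq]
      exact ⟨χ, hχ.symm⟩
    · rintro ⟨x, hx⟩
      obtain ⟨c₀, rfl⟩ := Submodule.Quotient.mk_surjective _ x
      rw [hδ, delta1Aux_apply, Submodule.Quotient.eq] at hx
      obtain ⟨χ, hχ⟩ := hx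
      have hχ' : d2Star Q M χ = (ses3 P Q M).conn1 c₀.1 c₀.2 - ω := hχ
      refine ⟨(ses3 P Q M).s1 c₀.1 - (beta P Q).pull1 M χ, ?_⟩
      rw [map_sub, ← PresHom.pull2_d2Star, hχ', map_sub]
      have := (ses3 P Q M).b2_conn1 c₀.1 c₀.2
      change (beta P Q).pull2 M _ = d2Star (Q.comp P) M _ at this
      rw [this]
      abel

/-- The nine-term sequence computed with `P`, `Q.comp P`, `Q`. -/
theorem nine_term_comp :
    Function.Injective ((beta P Q).T0pull M) ∧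
    Function.Exact ((beta P Q).T0pull M) ((alpha P Q).T0pull M) ∧
    Function.Exact ((beta P Q).T1pull M) ((alpha P Q).T1pull M) ∧
    Function.Exact ((beta P Q).T2pull M) ((alpha P Q).T2pull M) ∧
    ∃ (δ₀ : T0 P M →+ T1 Q M) (δ₁ : T1 P M →+ T2 Q M),
      Function.Exact ((alpha P Q).T0pull M) δ₀ ∧ Function.Exact δ₀ ((beta P Q).T1pull M) ∧
      Function.Exact ((alpha P Q).T1pull M) δ₁ ∧ Function.Exact δ₁ ((beta P Q).T2pull M) := by
  obtain ⟨δ₁, h1, h2⟩ := exists_delta1 P Q M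
  exact ⟨T0pull_beta_injective P Q M, exact_T0 P Q M, exact_T1 P Q M, exact_T2 P Q M,
    delta0 P Q M, δ₁, exact_T0_delta0 P Q M, exact_delta0_T1 P Q M, h1, h2⟩

end Groth.Agent.H61.LS
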