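import Groth.Agent.H61.LS.Invariance

set_option linter.style.haveILetI false
set_option linter.unusedSectionVars false

/-! Presentations without relations have vanishing `T¹`, `T²`. -/

open TensorProduct

namespace Groth.Agent.H61.LS

open CotT

universe u v w t m

variable {A : Type u} {B : Type v} {ι : Type w} {σ : Type t}
variable [CommRing A] [CommRing B] [Algebra A B]
variable (P : Algebra.Presentation A B ι σ)
variable (M : Type m) [AddCommGroup M] [Module B M]

lemma subsingleton_L1_of_isEmpty [IsEmpty σ] : Subsingleton (L1 P) := by
  have h : ∀ x : L1 P, x = 0 := by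
    intro x
    induction x using TensorProduct.induction_on with
    | zero => rfl
    | tmul b f => rw [Subsingleton.elim f 0, TensorProduct.tmul_zero]
    | add x y hx hy => rw [hx, hy, add_zero]
  exact ⟨fun a b => by rw [h a, h b]⟩

lemma subsingleton_L2_of_isEmpty [IsEmpty σ] : Subsingleton (L2 P) := by
  have h : ∀ x : L2 P, x = 0 := by
    intro x
    obtain ⟨z, rfl⟩ := Submodule.Quotient.mk_surjective _ x
    induction z using TensorProduct.induction_on with
    | zero => rfl
    | tmul b q =>
      have : q = 0 := Subtype.ext (Subsingleton.elim _ _)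
      rw [this, TensorProduct.tmul_zero, Submodule.Quotient.mk_zero]
    | add x y hx hy => rw [Submodule.Quotient.mk_add, hx, hy, add_zero]
  exact ⟨fun a b => by rw [h a, h b]⟩

theorem subsingleton_T1_of_isEmpty [IsEmpty σ] : Subsingleton (T1 P M) := by
  haveI := subsingleton_L1_of_isEmpty P
  have h : ∀ x : T1 P M, x = 0 := by
    intro x
    obtain ⟨c, rfl⟩ := Submodule.Quotient.mk_surjective _ x
    have : c = 0 := by
      apply Subtype.ext
      apply LinearMap.ext
      intro y
      rw [Subsingleton.elim y 0, map_zero, map_zero]
    rw [this, Submodule.Quotient.mk_zero]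
  exact ⟨fun a b => by rw [h a, h b]⟩

theorem subsingleton_T2_of_isEmpty [IsEmpty σ] : Subsingleton (T2 P M) := by
  haveI := subsingleton_L2_of_isEmpty P
  have h : ∀ x : T2 P M, x = 0 := by
    intro x
    obtain ⟨ψ, rfl⟩ := Submodule.Quotient.mk_surjective _ x
    have : ψ = 0 := by
      apply LinearMap.ext
      intro y
      rw [Subsingleton.elim y 0, map_zero, map_zero]
    rw [this, Submodule.Quotient.mk_zero]
  exact ⟨fun a b => by rw [h a, h b]⟩

end Groth.Agent.H61.LS
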