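import Groth.Agent.H61.LS.Homotopy2

set_option linter.style.haveILetI false
set_option linter.unusedSectionVars false

/-! Existence, identity and composition of morphisms of presentations. -/

open TensorProduct

namespace Groth.Agent.H61.LS

open CotT

universe u v w t u' v' w' t' m

section default

variable {A : Type u} {B : Type v} {ι : Type w} {σ : Type t}
variable {A' : Type u'} {B' : Type v'} {ι' : Type w'} {σ' : Type t'}
variable [CommRing A] [CommRing B] [Algebra A B] [CommRing A'] [CommRing B'] [Algebra A' B']
variable [Algebra A A'] [Algebra B B'] [Algebra A B'] [IsScalarTower A A' B'] [IsScalarTower A B B']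
variable (P : Algebra.Presentation A B ι σ) (P' : Algebra.Presentation A' B' ι' σ')

/-- any generators hom extends to a morphism of presentations. -/
lemma exists_presHom_of_hom (f : Algebra.Generators.Hom P.toGenerators P'.toGenerators) :
    ∃ h : PresHom P P', h.hom = f := by
  have hex : ∀ s : σ, ∃ v : relMod P', jmap P' v = f.toExtensionHom.toRingHom (rel P s) := by
    intro s
    have : f.toExtensionHom.toRingHom (rel P s) ∈ LinearMap.range (jmap P') := by
      rw [range_jmap]
      change algebraMap P'.toExtension.Ring B' _ = 0
      rw [f.toExtensionHom.algebraMap_toRingHom, algebraMap_rel, map_zero]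
    exact this
  choose v hv using hex
  exact ⟨⟨f, v, hv⟩, rfl⟩

/-- a morphism of presentations over any square. -/
noncomputable def defaultPresHom : PresHom P P' :=
  (exists_presHom_of_hom P P' (Algebra.Generators.defaultHom _ _)).choose

end default

section id

variable {A : Type u} {B : Type v} {ι : Type w} {σ : Type t}
variable [CommRing A] [CommRing B] [Algebra A B]
variable (P : Algebra.Presentation A B ι σ)

lemma id_ringHom (x : P.toExtension.Ring) : (PresHom.id P).ringHom x = x := by
  change (Algebra.Generators.Hom.id P.toGenerators).toAlgHom x = x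
  rw [Algebra.Generators.Hom.toAlgHom_id]
  rfl

lemma id_relModMap (f : relMod P) : (PresHom.id P).relModMap f = f := by
  induction f using Finsupp.induction_linear with
  | zero => simp
  | add f g hf hg => rw [map_add, hf, hg]
  | single s r =>
    rw [PresHom.relModMap_single, id_ringHom]
    change r • Finsupp.single s (1 : P.toExtension.Ring) = _
    rw [Finsupp.smul_single, smul_eq_mul, mul_one]

lemma id_L0map (x : L0 P) : (PresHom.id P).L0map x = x := by
  rw [PresHom.L0map_apply]
  change Algebra.Extension.CotangentSpace.map
    (Algebra.Generators.Hom.id P.toGenerators).toExtensionHom x = x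
  rw [Algebra.Generators.Hom.toExtensionHom_id, Algebra.Extension.CotangentSpace.map_id]
  rfl

lemma id_L1map (x : L1 P) : (PresHom.id P).L1map x = x := by
  induction x using TensorProduct.induction_on with
  | zero => simp
  | add x y hx hy => rw [map_add, hx, hy]
  | tmul b f =>
    rw [PresHom.L1map_tmul, id_relModMap]
    rfl

lemma id_L2map (x : L2 P) : (PresHom.id P).L2map x = x := by
  obtain ⟨z, rfl⟩ := Submodule.Quotient.mk_surjective _ x
  induction z using TensorProduct.induction_on with
  | zero => simp
  | add x y hx hy => rw [Submodule.Quotient.mk_add, map_add, hx, hy]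
  | tmul b q =>
    rw [PresHom.L2map_mk_tmul]
    have : (PresHom.id P).relKerMap q = q := by
      apply Subtype.ext
      rw [PresHom.relKerMap_coe, id_relModMap]
    rw [this]
    rfl

variable (M : Type m) [AddCommGroup M] [Module B M]

lemma id_T0pull (x : T0 P M) : (PresHom.id P).T0pull M x = x := by
  apply Subtype.ext
  apply LinearMap.ext
  intro y
  change (x : L0 P →ₗ[B] M) ((PresHom.id P).L0map y) = _
  rw [id_L0map]

lemma id_T1pull (x : T1 P M) : (PresHom.id P).T1pull M x = x := by
  obtain ⟨c, rfl⟩ := Submodule.Quotient.mk_surjective _ x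
  rw [T1pull_mk]
  congr 1
  apply Subtype.ext
  apply LinearMap.ext
  intro y
  change (c : L1 P →ₗ[B] M) ((PresHom.id P).L1map y) = _
  rw [id_L1map]

lemma id_T2pull (x : T2 P M) : (PresHom.id P).T2pull M x = x := by
  obtain ⟨ψ, rfl⟩ := Submodule.Quotient.mk_surjective _ x
  rw [T2pull_mk]
  congr 1
  apply LinearMap.ext
  intro y
  change ψ ((PresHom.id P).L2map y) = _
  rw [id_L2map]

end id

section comp

universe u'' v'' w'' t''

variable {A : Type u} {B : Type v} {ι : Type w} {σ : Type t}
variable {A' : Type u'} {B' : Type v'} {ι' : Type w'} {σ' : Type t'}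
variable {A'' : Type u''} {B'' : Type v''} {ι'' : Type w''} {σ'' : Type t''}
variable [CommRing A] [CommRing B] [Algebra A B] [CommRing A'] [CommRing B'] [Algebra A' B']
variable [CommRing A''] [CommRing B''] [Algebra A'' B'']
variable [Algebra A A'] [Algebra B B'] [Algebra A B'] [IsScalarTower A A' B'] [IsScalarTower A B B']
variable [Algebra A' A''] [Algebra B' B''] [Algebra A' B''] [IsScalarTower A' A'' B'']
  [IsScalarTower A' B' B'']
variable [Algebra A A''] [Algebra B B''] [Algebra A B''] [IsScalarTower A A'' B'']
  [IsScalarTower A B B'']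
variable [IsScalarTower A A' A''] [IsScalarTower B B' B'']
variable {P : Algebra.Presentation A B ι σ} {P' : Algebra.Presentation A' B' ι' σ'}
  {P'' : Algebra.Presentation A'' B'' ι'' σ''}

/-- composition of morphisms of presentations. -/
noncomputable def compPresHom (h : PresHom P P') (h' : PresHom P' P'') : PresHom P P'' where
  hom := h'.hom.comp h.hom
  relVal s := h'.relModMap (h.relVal s)
  jmap_relVal s := by
    rw [h'.jmap_relModMap, h.jmap_relVal]
    exact (Algebra.Generators.Hom.toAlgHom_comp_apply _ _ _ h.hom h'.hom (rel P s)).symm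

variable (h : PresHom P P') (h' : PresHom P' P'')

lemma comp_ringHom (x : P.toExtension.Ring) :
    (compPresHom h h').ringHom x = h'.ringHom (h.ringHom x) :=
  Algebra.Generators.Hom.toAlgHom_comp_apply _ _ _ h.hom h'.hom x

lemma comp_relModMap (f : relMod P) :
    (compPresHom h h').relModMap f = h'.relModMap (h.relModMap f) := by
  induction f using Finsupp.induction_linear with
  | zero => simp
  | add f g hf hg => rw [map_add, hf, hg, map_add, map_add]
  | single s r =>
    rw [PresHom.relModMap_single, PresHom.relModMap_single, LinearMap.map_smulₛₗ, comp_ringHom]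
    rfl

lemma comp_relKerMap (q : relKer P) :
    (compPresHom h h').relKerMap q = h'.relKerMap (h.relKerMap q) := by
  apply Subtype.ext
  rw [PresHom.relKerMap_coe, PresHom.relKerMap_coe, PresHom.relKerMap_coe, comp_relModMap]

lemma comp_L0map (x : L0 P) : (compPresHom h h').L0map x = h'.L0map (h.L0map x) := by
  rw [PresHom.L0map_apply, PresHom.L0map_apply, PresHom.L0map_apply]
  change Algebra.Extension.CotangentSpace.map (h'.hom.comp h.hom).toExtensionHom x = _
  rw [Algebra.Generators.Hom.toExtensionHom_comp,
    Algebra.Extension.CotangentSpace.map_comp_apply]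

lemma comp_L1map (x : L1 P) : (compPresHom h h').L1map x = h'.L1map (h.L1map x) := by
  induction x using TensorProduct.induction_on with
  | zero => simp
  | add x y hx hy => rw [map_add, hx, hy, map_add, map_add]
  | tmul b f =>
    rw [PresHom.L1map_tmul, PresHom.L1map_tmul, PresHom.L1map_tmul, comp_relModMap,
      ← IsScalarTower.algebraMap_apply]

lemma comp_L2map (x : L2 P) : (compPresHom h h').L2map x = h'.L2map (h.L2map x) := by
  obtain ⟨z, rfl⟩ := Submodule.Quotient.mk_surjective _ x
  induction z using TensorProduct.induction_on with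
  | zero => simp
  | add x y hx hy =>
    rw [Submodule.Quotient.mk_add, map_add, hx, hy, map_add, map_add]
  | tmul b q =>
    rw [PresHom.L2map_mk_tmul, PresHom.L2map_mk_tmul, PresHom.L2map_mk_tmul, comp_relKerMap,
      ← IsScalarTower.algebraMap_apply]

variable (M : Type m) [AddCommGroup M] [Module B'' M] [Module B' M] [Module B M]
  [IsScalarTower B' B'' M] [IsScalarTower B B'' M] [IsScalarTower B B' M]

lemma comp_T0pull (x : T0 P'' M) :
    (compPresHom h h').T0pull M x = h.T0pull M (h'.T0pull M x) := by
  apply Subtype.ext
  apply LinearMap.ext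
  intro y
  change (x : L0 P'' →ₗ[B''] M) ((compPresHom h h').L0map y) =
    (x : L0 P'' →ₗ[B''] M) (h'.L0map (h.L0map y))
  rw [comp_L0map]

lemma comp_T1pull (x : T1 P'' M) :
    (compPresHom h h').T1pull M x = h.T1pull M (h'.T1pull M x) := by
  obtain ⟨c, rfl⟩ := Submodule.Quotient.mk_surjective _ x
  rw [T1pull_mk, T1pull_mk, T1pull_mk]
  congr 1
  apply Subtype.ext
  apply LinearMap.ext
  intro y
  change (c : L1 P'' →ₗ[B''] M) ((compPresHom h h').L1map y) =
    (c : L1 P'' →ₗ[B''] M) (h'.L1map (h.L1map y))
  rw [comp_L1map]

lemma comp_T2pull (x : T2 P'' M) :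
    (compPresHom h h').T2pull M x = h.T2pull M (h'.T2pull M x) := by
  obtain ⟨ψ, rfl⟩ := Submodule.Quotient.mk_surjective _ x
  rw [T2pull_mk, T2pull_mk, T2pull_mk]
  congr 1
  apply LinearMap.ext
  intro y
  change ψ ((compPresHom h h').L2map y) = ψ (h'.L2map (h.L2map y))
  rw [comp_L2map]

/-- functoriality of the pull-backs for an arbitrary morphism over the composite square. -/
theorem T0pull_comp (k : PresHom P P'') (x : T0 P'' M) :
    k.T0pull M x = h.T0pull M (h'.T0pull M x) := by
  rw [← comp_T0pull, T0pull_eq M k (compPresHom h h')]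

theorem T1pull_comp (k : PresHom P P'') (x : T1 P'' M) :
    k.T1pull M x = h.T1pull M (h'.T1pull M x) := by
  rw [← comp_T1pull, T1pull_eq M k (compPresHom h h')]

theorem T2pull_comp (k : PresHom P P'') (x : T2 P'' M) :
    k.T2pull M x = h.T2pull M (h'.T2pull M x) := by
  rw [← comp_T2pull, T2pull_eq M k (compPresHom h h')]

end comp

end Groth.Agent.H61.LS
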