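import Groth.Agent.H61.LS.SmoothT2
import Groth.Agent.H26.RegIdeal

set_option linter.style.haveILetI false
set_option linter.unusedSectionVars false

/-! Regular local quotients of localizations of polynomial rings over a field: the kernel is generated by a
regular sequence. -/

open TensorProduct

namespace Groth.Agent.H61.LS

open CotT MvPolynomial RingTheory.Sequence

universe u v w t m

section

variable {R : Type u} {B : Type v} [CommRing R] [CommRing B] (π : R →+* B) (hπ : Function.Surjective π)
variable (n : Ideal R) [n.IsPrime] (hle : RingHom.ker π ≤ n)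

include hπ hle in
lemma map_isPrime_of_ker_le : (n.map π).IsPrime := Ideal.map_isPrime_of_surjective hπ hle

include hπ hle in
lemma comap_map_eq_of_ker_le : (n.map π).comap π = n := by
  rw [Ideal.comap_map_of_surjective π hπ, ← RingHom.ker_eq_comap_bot]
  exact sup_eq_left.2 hle

/-- `R_n / (ker π) R_n ≃ B_p` for `p = π(n)`. -/
noncomputable def quotLocEquiv [(n.map π).IsPrime] :
    (Localization.AtPrime n ⧸ (RingHom.ker π).map (algebraMap R (Localization.AtPrime n))) ≃+*
      Localization.AtPrime (n.map π) :=
  IsLocalization.ringEquivOfRingEquiv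
    (M := Algebra.algebraMapSubmonoid (R ⧸ RingHom.ker π) n.primeCompl)
    (Localization.AtPrime n ⧸ (RingHom.ker π).map (algebraMap R (Localization.AtPrime n)))
    (T := (n.map π).primeCompl) (Localization.AtPrime (n.map π))
    (RingHom.quotientKerEquivOfSurjective hπ) (by
      have hcomap := comap_map_eq_of_ker_le π hπ n hle
      ext b
      constructor
      · rintro ⟨_, ⟨r, hr, rfl⟩, rfl⟩
        change π r ∈ (n.map π).primeCompl
        intro hmem
        apply hr
        rw [← hcomap]
        exact hmem
      · intro hb
        obtain ⟨r, rfl⟩ := hπ b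
        refine ⟨Ideal.Quotient.mk _ r, ⟨r, ?_, rfl⟩, rfl⟩
        intro hr
        exact hb (Ideal.mem_map_of_mem π hr))

end

section Main

variable {k : Type u} [Field k] {B : Type v} [CommRing B] [Algebra k B] {ι : Type w} [Finite ι]
  {σ : Type t} (P : Algebra.Presentation k B ι σ)

instance : IsRegularRing P.toExtension.Ring :=
  inferInstanceAs (IsRegularRing (MvPolynomial ι k))

theorem exists_regular_of_regular_localizations
    (hreg : ∀ (p : Ideal B) [p.IsPrime], IsRegularLocalRing (Localization.AtPrime p))
    (n : Ideal P.toExtension.Ring) [n.IsMaximal] (hle : P.toExtension.ker ≤ n) :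
    ∃ rs : List (Localization.AtPrime n), IsWeaklyRegular (Localization.AtPrime n) rs ∧
      Ideal.ofList rs = P.toExtension.ker.map (algebraMap P.toExtension.Ring (Localization.AtPrime n)) := by
  have hπ : Function.Surjective (algebraMap P.toExtension.Ring B) := P.toExtension.algebraMap_surjective
  haveI hp : (n.map (algebraMap P.toExtension.Ring B)).IsPrime :=
    map_isPrime_of_ker_le _ hπ n hle
  haveI := hreg (n.map (algebraMap P.toExtension.Ring B))
  haveI : IsRegularLocalRing (Localization.AtPrime n ⧸
      P.toExtension.ker.map (algebraMap P.toExtension.Ring (Localization.AtPrime n))) :=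
    IsRegularLocalRing.of_ringEquiv (quotLocEquiv (algebraMap P.toExtension.Ring B) hπ n hle).symm
  obtain ⟨rs, hrs, hJ⟩ := (Groth.Agent.H26.isRegularLocalRing_iff_exists_regular
    (Localization.AtPrime n)
    (P.toExtension.ker.map (algebraMap P.toExtension.Ring (Localization.AtPrime n)))).1 inferInstance
  exact ⟨rs, hrs.toIsWeaklyRegular, hJ⟩

end Main

end Groth.Agent.H61.LS
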