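import Groth.Agent.S12289

set_option linter.style.haveILetI false
set_option linter.unusedSectionVars false

/-! `T¹(B/A, M) = 0` for all `M` iff `B` is formally smooth over `A`. -/

open TensorProduct

namespace Groth.Agent.H61.LS

open CotT

universe u w m

variable {k B : Type u} [CommRing k] [CommRing B] [Algebra k B] {ι σ : Type w}
variable (P : Algebra.Presentation k B ι σ)

instance formallySmooth_toExtension_ring : Algebra.FormallySmooth k P.toExtension.Ring :=
  inferInstanceAs (Algebra.FormallySmooth k (MvPolynomial ι k))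

theorem subsingleton_T1_of_formallySmooth [Algebra.FormallySmooth k B]
    (M : Type m) [AddCommGroup M] [Module B M] : Subsingleton (T1 P M) := by
  obtain ⟨-, h2, h3⟩ := Groth.Agent.S12289.result k B ι σ P M
  obtain ⟨l, hl⟩ := (Algebra.Extension.formallySmooth_iff_split_injection P.toExtension).1 inferInstance
  have h : ∀ x : T1 P M, x = 0 := by
    intro x
    obtain ⟨φ, rfl⟩ := h3 x
    rw [← LinearMap.mem_ker, h2]
    refine ⟨φ ∘ₗ l, ?_⟩
    rw [LinearMap.lcomp_apply', LinearMap.comp_assoc, hl, LinearMap.comp_id]
  exact ⟨fun a b => by rw [h a, h b]⟩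

theorem formallySmooth_of_subsingleton_T1 (h : Subsingleton (T1 P P.toExtension.Cotangent)) :
    Algebra.FormallySmooth k B := by
  obtain ⟨-, h2, -⟩ := Groth.Agent.S12289.result k B ι σ P P.toExtension.Cotangent
  have h0 : (LinearMap.id : P.toExtension.Cotangent →ₗ[B] P.toExtension.Cotangent) ∈
      LinearMap.ker (homToT1 P P.toExtension.Cotangent) := by
    rw [LinearMap.mem_ker]
    exact Subsingleton.elim _ _
  rw [h2] at h0
  obtain ⟨l, hl⟩ := h0
  rw [LinearMap.lcomp_apply'] at hl
  exact (Algebra.Extension.formallySmooth_iff_split_injection P.toExtension).2 ⟨l, hl⟩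

end Groth.Agent.H61.LS
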