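import Groth.Agent.H61.LS.RegInput
import Groth.Agent.H61.LS.T1Smooth
import Groth.Agent.H96.GeomRegAdic

set_option linter.style.haveILetI false
set_option linter.unusedSectionVars false

/-! For a finitely presented formally smooth algebra over a field, `T²` vanishes. -/

open TensorProduct

namespace Groth.Agent.H61.LS

open CotT

universe u w t m

section

variable (k : Type u) [Field k] (S : Type u) [CommRing S] [Algebra k S]

/-- a formally smooth noetherian local algebra over a field is regular. -/
theorem isRegularLocalRing_of_formallySmooth [IsLocalRing S] [IsNoetherianRing S]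
    [Algebra.FormallySmooth k S] : IsRegularLocalRing S := by
  apply Groth.Agent.H96.GeomRegAdic.regular_of_adic_field k S
  intro E _ _ J hJ ψ _
  obtain ⟨χ, hχ⟩ := Algebra.FormallySmooth.exists_lift J ⟨2, hJ⟩ ψ
  exact ⟨χ, hχ⟩

end

variable (k B : Type u) [Field k] [CommRing B] [Algebra k B]

theorem isRegularLocalRing_localization_of_formallySmooth [Algebra.FiniteType k B]
    [Algebra.FormallySmooth k B] (p : Ideal B) [p.IsPrime] :
    IsRegularLocalRing (Localization.AtPrime p) := by
  haveI : IsNoetherianRing B := Algebra.FiniteType.isNoetherianRing k B
  haveI : Algebra.FormallySmooth B (Localization.AtPrime p) :=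
    Algebra.FormallySmooth.of_isLocalization p.primeCompl
  haveI : Algebra.FormallySmooth k (Localization.AtPrime p) :=
    Algebra.FormallySmooth.comp k B (Localization.AtPrime p)
  haveI : IsNoetherianRing (Localization.AtPrime p) :=
    IsLocalization.isNoetherianRing p.primeCompl _ inferInstance
  exact isRegularLocalRing_of_formallySmooth k _

theorem projective_cotangent_of_formallySmooth {ι σ : Type w} (P : Algebra.Presentation k B ι σ)
    [Algebra.FormallySmooth k B] : Module.Projective B P.toExtension.Cotangent := by
  obtain ⟨l, hl⟩ := (Algebra.Extension.formallySmooth_iff_split_injection P.toExtension).1 inferInstance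
  haveI : Module.Free B P.toExtension.CotangentSpace := Module.Free.of_basis P.cotangentSpaceBasis
  exact Module.Projective.of_split P.toExtension.cotangentComplex l hl

/-- `T²` of a finitely presented formally smooth algebra over a field vanishes. -/
theorem subsingleton_T2_of_formallySmooth_field [Algebra.FiniteType k B] [Algebra.FormallySmooth k B]
    (M : Type m) [AddCommGroup M] [Module B M] : Subsingleton (T2 (canon k B) M) := by
  haveI : Algebra.FinitePresentation k B := Algebra.FinitePresentation.of_finiteType.1 inferInstance
  let P := Algebra.Presentation.ofFinitePresentation k B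
  haveI := projective_cotangent_of_formallySmooth k B P
  have hreg : ∀ (p : Ideal B) [p.IsPrime], IsRegularLocalRing (Localization.AtPrime p) :=
    fun p _ => isRegularLocalRing_localization_of_formallySmooth k B p
  haveI := subsingleton_T2_of_locally_regular P
    (fun n _ hle => exists_regular_of_regular_localizations P hreg n hle) M
  let h : PresHom (canon k B) P := defaultPresHom _ _
  have b2 := T2pull_bijective M h
  refine ⟨fun a b => ?_⟩
  obtain ⟨a', rfl⟩ := b2.2 a
  obtain ⟨b', rfl⟩ := b2.2 b
  rw [Subsingleton.elim a' b']

end Groth.Agent.H61.LS
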