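import Groth.Agent.H61.LS.T1Smooth
import Groth.Agent.H61.LS.LocKoszul
import Groth.Agent.H61.LS.NineGeneral
import Groth.Agent.H61.LS.Invariance

set_option linter.style.haveILetI false
set_option linter.unusedSectionVars false

/-! `T¹(B/A, -)` is killed by a power of `t` iff `B_t` is formally smooth over `A`. -/

open TensorProduct

namespace Groth.Agent.H61.LS

open CotT

universe u v w t m z

section core

variable {k B : Type u} [CommRing k] [CommRing B] [Algebra k B] {ι σ : Type w}
variable (P : Algebra.Presentation k B ι σ)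

/-- if `T¹(P, C_t) = 0` for the conormal module `C = I/I²` (finite, finitely many variables), then a power of
`t` kills `T¹(P, M)` for every `M`. -/
theorem exists_pow_smul_T1_eq_zero [Finite ι] [Module.Finite B P.toExtension.Cotangent] (t : B)
    (h : Subsingleton (T1 P (LocalizedModule (Submonoid.powers t) P.toExtension.Cotangent))) :
    ∃ n : ℕ, ∀ (M : Type m) [AddCommGroup M] [Module B M] (x : T1 P M), t ^ n • x = 0 := by
  classical
  let S := Submonoid.powers t
  let f := LocalizedModule.mkLinearMap S P.toExtension.Cotangent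
  obtain ⟨-, h2, -⟩ := Groth.Agent.S12289.result k B ι σ P (LocalizedModule S P.toExtension.Cotangent)
  have hf : f ∈ LinearMap.ker (homToT1 P (LocalizedModule S P.toExtension.Cotangent)) := by
    rw [LinearMap.mem_ker]
    exact Subsingleton.elim _ _
  rw [h2] at hf
  obtain ⟨ψ, hψ⟩ := hf
  rw [LinearMap.lcomp_apply'] at hψ
  haveI : Fintype ι := Fintype.ofFinite ι
  haveI : Module.Free B P.toExtension.CotangentSpace := Module.Free.of_basis P.cotangentSpaceBasis
  haveI : Module.Finite B P.toExtension.CotangentSpace := Module.Finite.of_basis P.cotangentSpaceBasis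
  haveI : Module.FinitePresentation B P.toExtension.CotangentSpace :=
    Module.finitePresentation_of_projective B _
  obtain ⟨ρ₀, s, hρ₀⟩ := Module.FinitePresentation.exists_lift_of_isLocalizedModule S f ψ
  have hcomp : f ∘ₗ (ρ₀ ∘ₗ P.toExtension.cotangentComplex) =
      f ∘ₗ (s • (LinearMap.id : P.toExtension.Cotangent →ₗ[B] P.toExtension.Cotangent)) := by
    rw [← LinearMap.comp_assoc, hρ₀, LinearMap.smul_comp, hψ, LinearMap.comp_smul, LinearMap.comp_id]
  obtain ⟨s', hs'⟩ := Module.Finite.exists_smul_of_comp_eq_of_isLocalizedModule S f _ _ hcomp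
  obtain ⟨n, hn⟩ : ∃ n : ℕ, t ^ n = (s' * s : S) := by
    obtain ⟨a, ha⟩ := (Submonoid.mem_powers_iff _ _).1 (s' * s).2
    exact ⟨a, ha⟩
  refine ⟨n, fun M _ _ x => ?_⟩
  obtain ⟨-, h2M, h3M⟩ := Groth.Agent.S12289.result k B ι σ P M
  obtain ⟨φ, rfl⟩ := h3M x
  rw [← map_smul, ← LinearMap.mem_ker, h2M]
  refine ⟨φ ∘ₗ (s' • ρ₀), ?_⟩
  rw [LinearMap.lcomp_apply', LinearMap.comp_assoc, LinearMap.smul_comp, hs', hn]
  ext c
  simp only [LinearMap.coe_comp, Function.comp_apply, LinearMap.smul_apply, LinearMap.id_coe, id_eq,
    Submonoid.smul_def, Submonoid.coe_mul, mul_smul, map_smul]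

/-- conversely: if `t^n` kills `T¹(P, M)` for finite `M`, then `T¹(P, N) = 0` whenever `t^n` is invertible on `N`. -/
theorem subsingleton_T1_of_pow_smul_eq_zero [Module.Finite B P.toExtension.Cotangent] (t : B) (n : ℕ)
    (h : ∀ (M : Type m) [AddCommGroup M] [Module B M] [Module.Finite B M] (x : T1 P M), t ^ n • x = 0)
    (N : Type m) [AddCommGroup N] [Module B N] (τ : N →ₗ[B] N) (hτ : ∀ x, τ (t ^ n • x) = x) :
    Subsingleton (T1 P N) := by
  obtain ⟨-, h2, h3⟩ := Groth.Agent.S12289.result k B ι σ P N
  have hz : ∀ x : T1 P N, x = 0 := by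
    intro x
    obtain ⟨φ, rfl⟩ := h3 x
    rw [← LinearMap.mem_ker, h2]
    let N' := LinearMap.range φ
    let φ' : P.toExtension.Cotangent →ₗ[B] N' := φ.rangeRestrict
    haveI : Module.Finite B N' := Module.Finite.range φ
    obtain ⟨-, h2', -⟩ := Groth.Agent.S12289.result k B ι σ P N'
    have h0 := h N' (homToT1 P N' φ')
    rw [← map_smul, ← LinearMap.mem_ker, h2'] at h0
    obtain ⟨ψ', hψ'⟩ := h0
    rw [LinearMap.lcomp_apply'] at hψ'
    refine ⟨τ ∘ₗ N'.subtype ∘ₗ ψ', ?_⟩
    rw [LinearMap.lcomp_apply', LinearMap.comp_assoc, LinearMap.comp_assoc, hψ']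
    ext c
    simp only [LinearMap.coe_comp, Function.comp_apply, LinearMap.smul_apply, map_smul]
    rw [← map_smul, hτ]
    rfl
  exact ⟨fun a b => by rw [hz a, hz b]⟩

end core

section loc

variable (A : Type z) (B C : Type u) [CommRing A] [CommRing B] [CommRing C]
variable [Algebra A B] [Algebra B C] [Algebra A C] [IsScalarTower A B C]

theorem subsingleton_T1_locPres (S : Submonoid B) [IsLocalization S C]
    (N : Type m) [AddCommGroup N] [Module C N] : Subsingleton (T1 (locPres S C) N) := by
  haveI : Algebra.FormallyEtale B C := Algebra.FormallyEtale.of_isLocalization S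
  haveI : Algebra.FormallySmooth B C := inferInstance
  exact subsingleton_T1_of_formallySmooth (locPres S C) N

/-- for a module over a localization `C = S⁻¹B`, `T¹(C/A, N) = 0 ↔ T¹(B/A, N) = 0`. -/
theorem subsingleton_T1_iff_of_isLocalization (S : Submonoid B) [IsLocalization S C]
    (N : Type m) [AddCommGroup N] [Module C N] [Module B N] [IsScalarTower B C N] :
    Subsingleton (T1 (canon A C) N) ↔ Subsingleton (T1 (canon A B) N) := by
  let hα : PresHom (canon A B) (canon A C) := canonHom A B A C
  let hβ : PresHom (canon A C) (locPres S C) := defaultPresHom _ _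
  obtain ⟨-, -, x1, -, δ₀, δ₁, -, -, y2, -⟩ :=
    nine_term_general (canon A B) (locPres S C) (canon A C) hα hβ N
  haveI : Subsingleton (T2 (locPres S C) N) := subsingleton_T2_locPres S C N
  haveI : Subsingleton (T1 (locPres S C) N) := subsingleton_T1_locPres B C S N
  constructor
  · intro h
    refine ⟨fun a b => ?_⟩
    obtain ⟨a', rfl⟩ := (y2 a).1 (Subsingleton.elim _ _)
    obtain ⟨b', rfl⟩ := (y2 b).1 (Subsingleton.elim _ _)
    rw [Subsingleton.elim a' b']
  · intro h
    refine ⟨fun a b => ?_⟩
    obtain ⟨a', rfl⟩ := (x1 a).1 (Subsingleton.elim _ _)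
    obtain ⟨b', rfl⟩ := (x1 b).1 (Subsingleton.elim _ _)
    rw [Subsingleton.elim a' b']

end loc

section main

variable (A B : Type u) [CommRing A] [CommRing B] [Algebra A B]

/-- transfer of a uniform annihilation statement between presentations. -/
lemma pow_smul_T1_eq_zero_transfer {ι σ : Type w} {ι' σ' : Type v}
    (P : Algebra.Presentation A B ι σ) (P' : Algebra.Presentation A B ι' σ') (t : B) (n : ℕ)
    (M : Type m) [AddCommGroup M] [Module B M]
    (h : ∀ x : T1 P M, t ^ n • x = 0) (x : T1 P' M) : t ^ n • x = 0 := by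
  let e : PresHom P' P := defaultPresHom P' P
  obtain ⟨y, rfl⟩ := (T1pull_bijective M e).2 x
  rw [← map_smul, h y, map_zero]

lemma subsingleton_T1_transfer {ι σ : Type w} {ι' σ' : Type v}
    (P : Algebra.Presentation A B ι σ) (P' : Algebra.Presentation A B ι' σ')
    (M : Type m) [AddCommGroup M] [Module B M]
    (h : Subsingleton (T1 P M)) : Subsingleton (T1 P' M) := by
  let e : PresHom P' P := defaultPresHom P' P
  refine ⟨fun a b => ?_⟩
  obtain ⟨a', rfl⟩ := (T1pull_bijective M e).2 a
  obtain ⟨b', rfl⟩ := (T1pull_bijective M e).2 b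
  rw [Subsingleton.elim a' b']

theorem formallySmooth_away_iff [IsNoetherianRing A] [Algebra.FiniteType A B] (t : B) :
    Algebra.FormallySmooth A (Localization.Away t) ↔
      ∃ n₀ : ℕ, ∀ (M : Type u) [AddCommGroup M] [Module B M] [Module.Finite B M],
        ∀ x : T1 (canon A B) M, t ^ n₀ • x = 0 := by
  haveI : Algebra.FinitePresentation A B := Algebra.FinitePresentation.of_finiteType.1 inferInstance
  let P := Algebra.Presentation.ofFinitePresentation A B
  haveI : Module.Finite B P.toExtension.Cotangent := by
    apply Algebra.Extension.Cotangent.finite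
    change (P.ker).FG
    rw [← P.span_range_relation_eq_ker]
    exact Submodule.fg_span (Set.finite_range _)
  constructor
  · intro hfs
    let N := LocalizedModule (Submonoid.powers t) P.toExtension.Cotangent
    have h1 : Subsingleton (T1 (canon A (Localization.Away t)) N) :=
      subsingleton_T1_of_formallySmooth (canon A (Localization.Away t)) N
    rw [subsingleton_T1_iff_of_isLocalization A B (Localization.Away t) (Submonoid.powers t) N] at h1
    have h2 : Subsingleton (T1 P N) := subsingleton_T1_transfer A B (canon A B) P N h1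
    obtain ⟨n, hn⟩ := exists_pow_smul_T1_eq_zero.{u, 0, u} P t h2
    refine ⟨n, fun M _ _ _ x => ?_⟩
    exact pow_smul_T1_eq_zero_transfer A B P (canon A B) t n M (hn M) x
  · rintro ⟨n₀, hn₀⟩
    have key : ∀ (N : Type u) [AddCommGroup N] [Module (Localization.Away t) N],
        Subsingleton (T1 (canon A (Localization.Away t)) N) := by
      intro N _ _
      letI : Module B N := Module.compHom N (algebraMap B (Localization.Away t))
      haveI : IsScalarTower B (Localization.Away t) N := IsScalarTower.of_compHom _ _ _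
      rw [subsingleton_T1_iff_of_isLocalization A B (Localization.Away t) (Submonoid.powers t) N]
      apply subsingleton_T1_transfer A B P (canon A B) N
      have hP : ∀ (M : Type u) [AddCommGroup M] [Module B M] [Module.Finite B M] (x : T1 P M),
          t ^ n₀ • x = 0 := fun M _ _ _ x =>
        pow_smul_T1_eq_zero_transfer A B (canon A B) P t n₀ M (hn₀ M) x
      let u : Localization.Away t :=
        IsLocalization.mk' (Localization.Away t) (1 : B) (⟨t ^ n₀, n₀, rfl⟩ : Submonoid.powers t)
      let τ : N →ₗ[B] N :=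
        { toFun := fun x => u • x
          map_add' := fun x y => smul_add _ _ _
          map_smul' := fun b x => smul_comm _ _ _ }
      refine subsingleton_T1_of_pow_smul_eq_zero P t n₀ hP N τ ?_
      intro x
      change u • (t ^ n₀ • x) = x
      rw [← algebraMap_smul (Localization.Away t) (t ^ n₀) x, ← mul_smul]
      have : u * algebraMap B (Localization.Away t) (t ^ n₀) = 1 := by
        have := IsLocalization.mk'_spec (Localization.Away t) (1 : B)
          (⟨t ^ n₀, n₀, rfl⟩ : Submonoid.powers t)
        rwa [map_one] at this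
      rw [this, one_smul]
    exact formallySmooth_of_subsingleton_T1 (canon A (Localization.Away t)) (key _)

end main

end Groth.Agent.H61.LS
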